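import Cfsg.Agent.Lib.Fpf.Prime
import Cfsg.Agent.Lib.Fpf.Sum

/-!
Coprime operators of prime order: fixed representatives, and the structure of a nonabelian group
of order `pq`.
-/

set_option autoImplicit false
set_option linter.unusedSectionVars false

namespace Cfsg.Agent.PQHeight

open Cfsg.Agent.Fpf (Inv Free fix)

universe u v

variable {G : Type u} [Group G] {A : Type v} [Group A]

/-- A fixed element in an invariant coset, for one operator of prime order. -/
theorem fixed_rep [Finite G] {l : ℕ} (hl : l.Prime) (φ : A →* MulAut G) {a : A} (ha : a ^ l = 1)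
    (H : Subgroup G) (hH : ∀ g ∈ H, φ a g ∈ H) (hcard : ¬ l ∣ Nat.card H) {g : G}
    (hg : g⁻¹ * φ a g ∈ H) : ∃ z, g⁻¹ * z ∈ H ∧ φ a z = z := by
  haveI := Fact.mk hl
  set φ' : Subgroup.zpowers a →* MulAut G := φ.comp (Subgroup.zpowers a).subtype
  have hfin : IsOfFinOrder a := isOfFinOrder_iff_pow_eq_one.mpr ⟨l, hl.pos, ha⟩
  have hpow : ∀ j : ℕ, ∀ y ∈ H, φ (a ^ j) y ∈ H := by
    intro j
    induction j with
    | zero => intro y hy; simpa using hy
    | succ j ih => intro y hy; rw [pow_succ', map_mul, MulAut.mul_apply]; exact hH _ (ih y hy)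
  have hi : Inv φ' H := by
    rintro ⟨b, hb⟩ y hy
    obtain ⟨j, rfl⟩ := hfin.mem_powers_iff_mem_zpowers.mpr hb
    exact hpow j y hy
  have hA : IsPGroup l (Subgroup.zpowers a) := fun ⟨b, hb⟩ => ⟨1, Subtype.ext (by
    obtain ⟨z, rfl⟩ := Subgroup.mem_zpowers_iff.mp hb
    rw [SubgroupClass.coe_pow, pow_one, ← zpow_natCast, ← zpow_mul, mul_comm, zpow_mul,
      zpow_natCast, ha, one_zpow]
    rfl)⟩
  have hg' : ∀ b : Subgroup.zpowers a, g⁻¹ * φ' b g ∈ H := by
    rintro ⟨b, hb⟩
    obtain ⟨j, rfl⟩ := hfin.mem_powers_iff_mem_zpowers.mpr hb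
    show g⁻¹ * φ (a ^ j) g ∈ H
    clear hb
    induction j with
    | zero => simp
    | succ j ih =>
      rw [pow_succ', map_mul, MulAut.mul_apply]
      have h1 := H.mul_mem hg (hH _ ih)
      rwa [map_mul, map_inv, mul_assoc, mul_inv_cancel_left] at h1
  obtain ⟨z, hz, hfix⟩ := Fpf.exists_fixed_in_coset hA hi hcard hg'
  exact ⟨z, hz, hfix ⟨a, Subgroup.mem_zpowers a⟩⟩

/-- The data of a nonabelian group of order `pq`. -/
structure PQ (A : Type v) [Group A] (π : A) (p q : ℕ) : Prop where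
  hp : p.Prime
  hq : q.Prime
  hπ : orderOf π = p
  norm : ∀ a : A, a * π * a⁻¹ ∈ Subgroup.zpowers π
  other : ∀ a : A, a ∉ Subgroup.zpowers π → orderOf a = q
  card : Nat.card A = p * q
  hp2 : p ≠ 2
  hqp : q ∣ p - 1

namespace PQ

variable {π : A} {p q : ℕ} (h : PQ A π p q)
include h

theorem ne : p ≠ q := by
  intro e
  have h1 := Nat.le_of_dvd (by have := h.hp.two_le; omega) h.hqp
  have := h.hp.two_le
  omega

theorem exists_other [Finite A] : ∃ b : A, b ∉ Subgroup.zpowers π := by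
  by_contra hcon
  push Not at hcon
  have h1 := orderOf_eq_card_of_forall_mem_zpowers hcon
  rw [h.hπ, h.card] at h1
  have := h.hq.two_le
  have := h.hp.pos
  nlinarith

theorem pow_other {b : A} (hb : b ∉ Subgroup.zpowers π) : b ^ q = 1 := by
  rw [← h.other b hb, pow_orderOf_eq_one]

theorem pow_pi : π ^ p = 1 := by rw [← h.hπ, pow_orderOf_eq_one]

theorem sup_eq_top [Finite A] {b : A} (hb : b ∉ Subgroup.zpowers π) :
    Subgroup.zpowers π ⊔ Subgroup.zpowers b = ⊤ := by
  apply Subgroup.eq_top_of_card_eq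
  refine Nat.dvd_antisymm (Subgroup.card_subgroup_dvd_card _) ?_
  rw [h.card]
  refine ((Nat.coprime_primes h.hp h.hq).mpr h.ne).mul_dvd_of_dvd_of_dvd ?_ ?_
  · rw [← h.hπ, ← Nat.card_zpowers]; exact Subgroup.card_dvd_of_le le_sup_left
  · rw [← h.other b hb, ← Nat.card_zpowers]; exact Subgroup.card_dvd_of_le le_sup_right

/-- An element fixed by `π` and by an element outside is fixed by everything. -/
theorem fix_all [Finite A] (φ : A →* MulAut G) {b : A} (hb : b ∉ Subgroup.zpowers π) {y : G}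
    (h1 : φ π y = y) (h2 : φ b y = y) : ∀ a, φ a y = y := by
  intro a
  let H : Subgroup A :=
    { carrier := {a | φ a y = y}
      one_mem' := by show φ 1 y = y; rw [map_one, MulAut.one_apply]
      mul_mem' := fun {c d} hc hd => by
        show φ (c * d) y = y
        rw [map_mul, MulAut.mul_apply, hd, hc]
      inv_mem' := fun {c} hc => by
        show φ c⁻¹ y = y
        conv_lhs => rw [← (hc : φ c y = y)]
        rw [← MulAut.mul_apply, ← map_mul, inv_mul_cancel, map_one, MulAut.one_apply] }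
  have hle : (⊤ : Subgroup A) ≤ H := by
    rw [← h.sup_eq_top hb]
    exact sup_le (Subgroup.zpowers_le.mpr h1) (Subgroup.zpowers_le.mpr h2)
  exact hle (Subgroup.mem_top a)

/-- A subgroup avoiding `π` is trivial or generated by an outside element. -/
theorem avoid_cases [Finite A] {H : Subgroup A} (hH : π ∉ H) :
    H = ⊥ ∨ ∃ b, b ∉ Subgroup.zpowers π ∧ H = Subgroup.zpowers b := by
  rcases eq_or_ne H ⊥ with e | e
  · exact Or.inl e
  haveI := Fact.mk h.hp
  refine Or.inr ?_
  have hnp : ¬ p ∣ Nat.card H := by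
    intro hd
    obtain ⟨x, hx⟩ := exists_prime_orderOf_dvd_card' (G := H) p hd
    have hxo : orderOf (x : A) = p := by rw [Subgroup.orderOf_coe, hx]
    by_cases hmem : (x : A) ∈ Subgroup.zpowers π
    · refine hH ?_
      have heq : Subgroup.zpowers (x : A) = Subgroup.zpowers π :=
        Subgroup.eq_of_le_of_card_ge (Subgroup.zpowers_le.mpr hmem)
          (le_of_eq (by rw [Nat.card_zpowers, Nat.card_zpowers, hxo, h.hπ]))
      exact Subgroup.zpowers_le.mpr x.2 (heq ▸ Subgroup.mem_zpowers π)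
    · exact h.ne (hxo.symm.trans (h.other _ hmem))
  obtain ⟨b, hb, hb1⟩ := H.bot_or_exists_ne_one.resolve_left e
  have hbπ : b ∉ Subgroup.zpowers π := fun hmem => hnp (by
    have h1 : orderOf b ∣ p := by
      rw [← h.hπ, ← Nat.card_zpowers, ← Nat.card_zpowers]
      exact Subgroup.card_dvd_of_le (Subgroup.zpowers_le.mpr hmem)
    rcases h.hp.eq_one_or_self_of_dvd _ h1 with h2 | h2
    · exact absurd (orderOf_eq_one_iff.mp h2) hb1
    · rw [← h2, ← Nat.card_zpowers]; exact Subgroup.card_dvd_of_le (Subgroup.zpowers_le.mpr hb))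
  refine ⟨b, hbπ, (Subgroup.eq_of_le_of_card_ge (Subgroup.zpowers_le.mpr hb) ?_).symm⟩
  rw [Nat.card_zpowers, h.other b hbπ]
  have h1 : Nat.card H ∣ p * q := h.card ▸ H.card_subgroup_dvd_card
  exact Nat.le_of_dvd h.hq.pos
    ((h.hp.coprime_iff_not_dvd.mpr hnp).symm.dvd_of_dvd_mul_left h1)

/-- The fixed points of `π` are invariant. -/
theorem inv_fix (φ : A →* MulAut G) : Inv φ (fix φ π) := by
  intro a y hy
  have h1 : φ (a⁻¹ * π * a⁻¹⁻¹) y = y := Fpf.fix_zpow φ hy (h.norm a⁻¹)
  rw [inv_inv] at h1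
  show φ π (φ a y) = φ a y
  conv_rhs => rw [← h1]
  rw [← MulAut.mul_apply, ← MulAut.mul_apply, ← map_mul, ← map_mul,
    show a * (a⁻¹ * π * a) = π * a by group]

end PQ

end Cfsg.Agent.PQHeight
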