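import Cfsg.Agent.Lib.OddLocal.FrobeniusModule

/-!
An abelian group acting without fixed points on a group of exponent two, normalised by an
automorphism of prime order acting fixed-point-freely on it.
-/

set_option autoImplicit false
set_option linter.unusedSectionVars false
set_option linter.style.haveILetI false

namespace Cfsg.Agent.PQHeight

open Module Finset
open scoped TensorProduct

section Linear

variable {K : Type*} [Field K] [IsAlgClosed K] {R : Type*} [CommGroup R] [Finite R]
  {V : Type*} [AddCommGroup V] [Module K V] [FiniteDimensional K V]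

/-- Dimension of the fixed space. -/
theorem finrank_eq_mul (ρ : R →* Module.End K V) (hR : (Nat.card R : K) ≠ 0)
    (h0 : ∀ v, (∀ x, ρ x v = v) → v = 0) {l : ℕ} (hl : l.Prime) (B : Module.End K V)
    (bR : MulAut R) (hc : ∀ x, B * ρ x = ρ (bR x) * B) (hBl : B ^ l = 1) (hbl : bR ^ l = 1)
    (hfree : ∀ x, bR x = x → x = 1) :
    finrank K V = l * finrank K (LinearMap.ker (B - 1)) := by
  classical
  haveI := Fintype.ofFinite R
  haveI : NeZero (Monoid.exponent R : K) := ⟨fun h => hR (by
    obtain ⟨c, hc⟩ := Group.exponent_dvd_nat_card (G := R)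
    rw [hc, Nat.cast_mul, h, zero_mul])⟩
  haveI : Finite (R →* Kˣ) := Nat.finite_of_card_ne_zero (by
    rw [CommGroup.card_monoidHom_of_hasEnoughRootsOfUnity]
    exact Nat.card_pos.ne')
  haveI := Fintype.ofFinite (R →* Kˣ)
  let e : (R →* Kˣ) → Module.End K V := fun μ =>
    (Nat.card R : K)⁻¹ • ∑ x : R, ((μ x⁻¹ : Kˣ) : K) • ρ x
  -- the orthogonal idempotents
  have hrho : ∀ μ y, ρ y * e μ = ((μ y : Kˣ) : K) • e μ := by
    intro μ y
    simp only [e, mul_smul_comm, Finset.mul_sum]
    rw [smul_comm]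
    congr 1
    rw [Finset.smul_sum]
    refine Fintype.sum_equiv (Equiv.mulLeft y) _ _ fun x => ?_
    show ((μ x⁻¹ : Kˣ) : K) • (ρ y * ρ x) = ((μ y : Kˣ) : K) • ((μ (y * x)⁻¹ : Kˣ) : K) • ρ (y * x)
    rw [smul_smul, ← Units.val_mul, ← map_mul μ, mul_inv_rev, mul_comm x⁻¹, mul_inv_cancel_left,
      map_mul ρ]
  have horth : ∀ μ ν, e ν * e μ = if ν = μ then e μ else 0 := by
    intro μ ν
    conv_lhs => arg 1; simp only [e]
    rw [smul_mul_assoc, Finset.sum_mul]
    rw [Finset.sum_congr rfl fun x _ => show ((ν x⁻¹ : Kˣ) : K) • ρ x * e μ =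
      (((ν x⁻¹ : Kˣ) : K) * ((μ x : Kˣ) : K)) • e μ by rw [smul_mul_assoc, hrho, smul_smul],
      ← Finset.sum_smul, smul_smul]
    split_ifs with h
    · subst h
      rw [Finset.sum_congr rfl fun x _ => show ((ν x⁻¹ : Kˣ) : K) * ((ν x : Kˣ) : K) = 1 by
        rw [← Units.val_mul, ← map_mul, inv_mul_cancel, map_one, Units.val_one],
        Finset.sum_const, Finset.card_univ, nsmul_one, ← Nat.card_eq_fintype_card,
        inv_mul_cancel₀ hR, one_smul]
    · let f : R →* K :=
        { toFun := fun x => ((ν x⁻¹ : Kˣ) : K) * ((μ x : Kˣ) : K)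
          map_one' := by simp
          map_mul' := fun x y => by
            simp only [mul_inv, map_mul, map_inv, Units.val_mul]; ring }
      have hf : f ≠ 1 := fun hf => h (MonoidHom.ext fun x => by
        have h1 : ((ν x⁻¹ : Kˣ) : K) * ((μ x : Kˣ) : K) = 1 := DFunLike.congr_fun hf x
        rw [← Units.val_mul, Units.val_eq_one, map_inv, inv_mul_eq_one] at h1
        exact h1)
      rw [show ∑ x : R, ((ν x⁻¹ : Kˣ) : K) * ((μ x : Kˣ) : K) = 0 from sum_hom_units_eq_zero f hf,
        mul_zero, zero_smul]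
  have hsum : ∑ μ : R →* Kˣ, e μ = 1 := by
    simp only [e]
    rw [← Finset.smul_sum, Finset.sum_comm, Finset.sum_eq_single (1 : R)]
    · simp only [inv_one, map_one, Units.val_one, one_smul, Finset.sum_const, Finset.card_univ]
      rw [← Nat.card_eq_fintype_card, CommGroup.card_monoidHom_of_hasEnoughRootsOfUnity,
        ← Nat.cast_smul_eq_nsmul K, inv_smul_smul₀ hR]
    · intro x _ hx
      let f : (R →* Kˣ) →* K :=
        { toFun := fun μ => ((μ x⁻¹ : Kˣ) : K)
          map_one' := by simp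
          map_mul' := fun μ ν => by simp }
      have hf : f ≠ 1 := by
        intro hf
        obtain ⟨φ, hφ⟩ := CommGroup.exists_apply_ne_one_of_hasEnoughRootsOfUnity R K
          (inv_ne_one.mpr hx)
        exact hφ (Units.val_eq_one.mp (DFunLike.congr_fun hf φ))
      rw [← Finset.sum_smul, show ∑ μ : R →* Kˣ, ((μ x⁻¹ : Kˣ) : K) = 0 from sum_hom_units_eq_zero f hf,
        zero_smul]
    · exact fun h => absurd (Finset.mem_univ _) h
  have he1 : e 1 = 0 := LinearMap.ext fun v => h0 _ fun x => by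
    rw [← Module.End.mul_apply, hrho, MonoidHom.one_apply, Units.val_one, one_smul]
  -- shifting by the automorphism
  let sh : ℕ → (R →* Kˣ) → (R →* Kˣ) := fun j μ => μ.comp (bR ^ j).toMonoidHom
  have hBj : ∀ (j : ℕ) x, B ^ j * ρ x = ρ ((bR ^ j) x) * B ^ j := by
    intro j
    induction j with
    | zero => intro x; simp
    | succ j ih =>
      intro x
      rw [pow_succ', mul_assoc, ih, ← mul_assoc, hc, mul_assoc, pow_succ', MulAut.mul_apply]
  have heB : ∀ μ j, e μ * B ^ j = B ^ j * e (sh j μ) := by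
    intro μ j
    simp only [e, smul_mul_assoc, mul_smul_comm, Finset.sum_mul, Finset.mul_sum, hBj]
    congr 1
    refine (Fintype.sum_equiv (bR ^ j).toEquiv _ _ fun x => ?_).symm
    show ((μ ((bR ^ j) x⁻¹) : Kˣ) : K) • (ρ ((bR ^ j) x) * B ^ j) = _
    rw [map_inv]
    rfl
  have hshadd : ∀ i j μ, sh i (sh j μ) = sh (j + i) μ := fun i j μ => MonoidHom.ext fun x => by
    show μ ((bR ^ j) ((bR ^ i) x)) = μ ((bR ^ (j + i)) x)
    rw [pow_add, MulAut.mul_apply]
  have hshl : ∀ μ, sh l μ = μ := fun μ => MonoidHom.ext fun x => by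
    show μ ((bR ^ l) x) = μ x
    rw [hbl, MulAut.one_apply]
  have hshmod : ∀ j μ, sh j μ = sh (j % l) μ := by
    intro j μ
    conv_lhs => rw [← Nat.mod_add_div j l]
    refine MonoidHom.ext fun x => ?_
    show μ ((bR ^ (j % l + l * (j / l))) x) = μ ((bR ^ (j % l)) x)
    rw [pow_add, pow_mul, hbl, one_pow, mul_one]
  have hregular : ∀ μ j, sh j μ = μ → ¬ l ∣ j → μ = 1 := by
    intro μ j hj hlj
    obtain ⟨k, hk⟩ := exists_pow_eq_self_of_coprime (x := bR) (n := j)
      ((Nat.Coprime.symm ((hl.coprime_iff_not_dvd).mpr hlj)).coprime_dvd_right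
        (orderOf_dvd_of_pow_eq_one hbl))
    have hiter : ∀ i, sh (j * i) μ = μ := by
      intro i
      induction i with
      | zero => exact MonoidHom.ext fun x => rfl
      | succ i ih => rw [Nat.mul_succ, ← hshadd, ih, hj]
    have hμb : ∀ x, μ (bR x) = μ x := fun x => by
      have h1 := DFunLike.congr_fun (hiter k) x
      rw [show bR x = (bR ^ (j * k)) x by rw [pow_mul, hk]]
      exact h1
    refine MonoidHom.ext fun x => ?_
    obtain ⟨y, rfl⟩ := ((Finite.injective_iff_surjective (f := fun y => y⁻¹ * bR y)).mp (fun y z h => by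
      have h' : y⁻¹ * bR y = z⁻¹ * bR z := h
      have h2 : bR (y / z) = y / z := by
        rw [map_div]
        rw [inv_mul_eq_iff_eq_mul] at h'
        rw [h', mul_div_assoc, mul_comm z⁻¹, mul_div_cancel_left, div_eq_mul_inv]
      exact div_eq_one.mp (hfree _ h2))) x
    show μ (y⁻¹ * bR y) = 1
    rw [map_mul, map_inv, hμb, inv_mul_cancel]
  -- representatives of the orbits
  obtain ⟨n, hn⟩ := Countable.exists_injective_nat (R →* Kˣ)
  have hback : ∀ j μ, sh (l - j % l) (sh j μ) = μ := fun j μ => by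
    rw [hshadd, hshmod, show (j + (l - j % l)) % l = 0 from Nat.mod_eq_zero_of_dvd ⟨j / l + 1, by
      have h1 := Nat.mod_add_div j l
      have h2 := Nat.mod_lt j hl.pos
      rw [Nat.mul_add, mul_one]; omega⟩] <;> exact MonoidHom.ext fun x => rfl
  let Rep : Finset (R →* Kˣ) := Finset.univ.filter fun μ => μ ≠ 1 ∧ ∀ j, n μ ≤ n (sh j μ)
  have hRep : ∀ {μ}, μ ∈ Rep ↔ μ ≠ 1 ∧ ∀ j, n μ ≤ n (sh j μ) := fun {μ} => by simp [Rep]
  have hsh1 : ∀ j μ, sh j μ = 1 → μ = 1 := fun j μ h => MonoidHom.ext fun x => by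
    obtain ⟨y, rfl⟩ := (bR ^ j).surjective x
    exact DFunLike.congr_fun h y
  have huniq : ∀ μ ∈ Rep, ∀ j, sh j μ ∈ Rep → l ∣ j := by
    intro μ hμ j hj
    by_contra hlj
    refine (hRep.mp hμ).1 (hregular μ j ?_ hlj)
    refine hn (le_antisymm ?_ ((hRep.mp hμ).2 j))
    have h1 := (hRep.mp hj).2 (l - j % l)
    rwa [hback] at h1
  set ε := ∑ μ ∈ Rep, e μ with hε
  have hεB : ∀ j, ε * B ^ j = B ^ j * ∑ μ ∈ Rep, e (sh j μ) := fun j => by
    rw [hε, Finset.sum_mul, Finset.mul_sum]
    exact Finset.sum_congr rfl fun μ _ => heB μ j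
  have hεε : ∀ j, ε * (B ^ j * ε) = if l ∣ j then ε else 0 := by
    intro j
    rw [← mul_assoc, hεB, mul_assoc, Finset.sum_mul]
    simp only [hε, Finset.mul_sum, horth]
    split_ifs with hj
    · obtain ⟨c, rfl⟩ := hj
      rw [pow_mul, hBl, one_pow]
      simp only [one_mul]
      rw [Finset.sum_congr rfl fun μ _ => Finset.sum_congr rfl fun ν _ => show
        (if sh (l * c) μ = ν then e ν else 0) = if μ = ν then e ν else 0 by
          rw [hshmod, Nat.mul_mod_right, show sh 0 μ = μ from MonoidHom.ext fun x => rfl]]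
      refine Finset.sum_congr rfl fun μ hμ => ?_
      rw [Finset.sum_ite_eq, if_pos hμ]
    · refine Finset.sum_eq_zero fun μ hμ => Finset.sum_eq_zero fun ν hν => ?_
      rw [if_neg fun h => hj (huniq μ hμ j (by rwa [h])), mul_zero]
  have hdecomp : ∑ j ∈ range l, B ^ (l - j) * (ε * B ^ j) = 1 := by
    have h1 : ∀ j ∈ range l, B ^ (l - j) * (ε * B ^ j) = ∑ μ ∈ Rep, e (sh j μ) := fun j hj => by
      rw [hεB, ← mul_assoc, ← pow_add, Nat.sub_add_cancel (Finset.mem_range.mp hj).le, hBl, one_mul]
    rw [Finset.sum_congr rfl h1, ← hsum, ← Finset.sum_erase (Finset.univ) he1, ← Finset.sum_product']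
    refine Finset.sum_bij (fun p _ => sh p.1 p.2) ?_ ?_ ?_ fun p _ => rfl
    · intro p hp
      rw [Finset.mem_product] at hp
      exact Finset.mem_erase.mpr ⟨fun h => (hRep.mp hp.2).1 (hsh1 _ _ h), Finset.mem_univ _⟩
    · rintro ⟨i, μ⟩ hi ⟨j, ν⟩ hj h
      rw [Finset.mem_product] at hi hj
      have hil := Finset.mem_range.mp hi.1
      have hjl := Finset.mem_range.mp hj.1
      have h2 := congrArg (sh (l - i)) h
      rw [hshadd, hshadd, show i + (l - i) = l by omega, hshl] at h2
      have hd := huniq ν hj.2 (j + (l - i)) (h2 ▸ hi.2)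
      have hij : i = j := by
        obtain ⟨c, hc⟩ := hd
        rcases c with _ | _ | c
        · simp at hc; omega
        · simp at hc; omega
        · rw [Nat.mul_add, Nat.mul_add] at hc; omega
      subst hij
      rw [show i + (l - i) = l by omega, hshl] at h2
      simp only at h2 ⊢
      rw [h2]
    · intro μ hμ
      obtain ⟨j, -, hjmin⟩ := Finset.exists_min_image (range l) (fun j => n (sh j μ))
        ⟨0, Finset.mem_range.mpr hl.pos⟩
      refine ⟨((l - j % l) % l, sh j μ), Finset.mem_product.mpr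
        ⟨Finset.mem_range.mpr (Nat.mod_lt _ hl.pos), hRep.mpr ⟨fun h =>
          (Finset.mem_erase.mp hμ).1 (hsh1 _ _ h), fun i => ?_⟩⟩, ?_⟩
      · rw [hshadd, hshmod (j + i)]
        exact hjmin _ (Finset.mem_range.mpr (Nat.mod_lt _ hl.pos))
      · show sh _ (sh j μ) = μ
        rw [hshadd, hshmod, Nat.add_mod_mod, ← hshmod, ← hshadd]
        exact hback j μ
  -- the isomorphism
  set C := LinearMap.ker (B - 1) with hC
  have hCmem : ∀ {v}, v ∈ C ↔ B v = v := fun {v} => by
    rw [hC, LinearMap.mem_ker, LinearMap.sub_apply, Module.End.one_apply, sub_eq_zero]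
  have hBfix : ∀ {v}, v ∈ C → ∀ i : ℕ, (B ^ i) v = v := by
    intro v hv i
    induction i with
    | zero => simp
    | succ i ih => rw [pow_succ', Module.End.mul_apply, ih, hCmem.mp hv]
  let Φ : (Fin l → C) →ₗ[K] V :=
    ∑ j : Fin l, ((B ^ (l - (j : ℕ))) * ε).comp (C.subtype.comp (LinearMap.proj j))
  have hΦ : ∀ f, Φ f = ∑ j : Fin l, (B ^ (l - (j : ℕ))) (ε (f j)) := fun f => by
    simp [Φ, LinearMap.sum_apply]
  have hεrec : ∀ v ∈ C, ∑ i ∈ range l, (B ^ (l - i)) (ε v) = v := by
    intro v hv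
    conv_rhs => rw [← Module.End.one_apply (R := K) v, ← hdecomp, LinearMap.sum_apply]
    refine Finset.sum_congr rfl fun i _ => ?_
    rw [Module.End.mul_apply, Module.End.mul_apply, hBfix hv]
  have hinj : Function.Injective Φ := by
    rw [← LinearMap.ker_eq_bot, LinearMap.ker_eq_bot']
    intro f hf
    funext k
    have h1 := congrArg (ε * B ^ (k : ℕ)) hf
    rw [hΦ, map_sum, map_zero, Finset.sum_eq_single k] at h1
    · have h2 : ε ((f k : V)) = 0 := by
        simp only [← Module.End.mul_apply, mul_assoc] at h1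
        rw [← mul_assoc (B ^ (k : ℕ)),
          ← pow_add, Nat.add_sub_cancel' k.isLt.le, hεε, if_pos dvd_rfl] at h1
        exact h1
      refine Subtype.ext ?_
      rw [← hεrec _ (f k).2]
      simp [h2]
    · intro j _ hjk
      simp only [← Module.End.mul_apply, mul_assoc]
      rw [← mul_assoc (B ^ (k : ℕ)),
        ← pow_add, hεε, if_neg, LinearMap.zero_apply]
      rintro ⟨c, hc⟩
      have hj := j.isLt
      have hk := k.isLt
      refine hjk (Fin.ext ?_)
      rcases c with _ | _ | c
      · simp at hc; omega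
      · simp at hc; omega
      · rw [Nat.mul_add, Nat.mul_add] at hc; omega
    · exact fun h => absurd (Finset.mem_univ k) h
  have hsurj : Function.Surjective Φ := by
    intro v
    have hsumC : ∀ w, ∑ i ∈ range l, (B ^ i) w ∈ C := fun w => by
      refine hCmem.mpr ?_
      rw [map_sum]
      have h1 := Finset.sum_range_succ (fun i => (B ^ i) w) l
      rw [Finset.sum_range_succ', hBl, pow_zero] at h1
      refine Eq.trans (Finset.sum_congr rfl fun i _ => ?_) (add_right_cancel h1)
      rw [pow_succ', Module.End.mul_apply]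
    refine ⟨fun j => ⟨_, hsumC ((ε * B ^ (j : ℕ)) v)⟩, ?_⟩
    rw [hΦ]
    conv_rhs => rw [← Module.End.one_apply (R := K) v, ← hdecomp,
      ← Fin.sum_univ_eq_sum_range (fun j => B ^ (l - j) * (ε * B ^ j)), LinearMap.sum_apply]
    refine Finset.sum_congr rfl fun j _ => ?_
    show _ = (B ^ (l - (j : ℕ))) ((ε * B ^ (j : ℕ)) v)
    congr 1
    show ε (∑ i ∈ range l, (B ^ i) ((ε * B ^ (j : ℕ)) v)) = _
    rw [map_sum, Finset.sum_eq_single 0]
    · rw [Module.End.mul_apply, ← Module.End.mul_apply ε, ← Module.End.mul_apply, mul_assoc, hεε,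
        if_pos (dvd_zero l)]
    · intro i hi hi0
      rw [Module.End.mul_apply, ← Module.End.mul_apply ε, ← Module.End.mul_apply, mul_assoc, hεε,
        if_neg fun hd => hi0 (Nat.eq_zero_of_dvd_of_lt hd (Finset.mem_range.mp hi)),
        LinearMap.zero_apply]
    · exact fun h => absurd (Finset.mem_range.mpr hl.pos) h
  rw [← LinearEquiv.finrank_eq (LinearEquiv.ofBijective Φ ⟨hinj, hsurj⟩),
    Module.finrank_pi_fintype, Finset.sum_const, Finset.card_univ, Fintype.card_fin, smul_eq_mul]

end Linear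

/-- The counting form in exponent two. -/
theorem card_eq_fixed_pow {U R : Type*} [CommGroup U] [Finite U] [CommGroup R] [Finite R]
    (hU2 : ∀ u : U, u ^ 2 = 1) (hR : ¬ 2 ∣ Nat.card R) (γ : R →* MulAut U)
    (h0 : ∀ u, (∀ x, γ x u = u) → u = 1) {l : ℕ} (hl : l.Prime) (b : MulAut U) (bR : MulAut R)
    (hc : ∀ x u, b (γ x u) = γ (bR x) (b u)) (hbl : b ^ l = 1) (hbRl : bR ^ l = 1)
    (hfree : ∀ x, bR x = x → x = 1) :
    Nat.card U = Nat.card {u // b u = u} ^ l := by
  classical
  haveI : Fact (Nat.Prime 2) := ⟨Nat.prime_two⟩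
  haveI : Module (ZMod 2) (Additive U) := AddCommGroup.zmodModule fun u => by
    exact congrArg Additive.ofMul (hU2 u.toMul)
  haveI : Finite (Additive U) := inferInstanceAs (Finite U)
  haveI : Module.Finite (ZMod 2) (Additive U) := Module.Finite.of_finite
  let toL : MulAut U →* Module.End (ZMod 2) (Additive U) :=
    { toFun := fun f => AddMonoidHom.toZModLinearMap 2 (MonoidHom.toAdditive f.toMonoidHom)
      map_one' := LinearMap.ext fun _ => rfl
      map_mul' := fun _ _ => LinearMap.ext fun _ => rfl }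
  let K := AlgebraicClosure (ZMod 2)
  haveI : CharP K 2 := charP_of_injective_algebraMap (algebraMap (ZMod 2) K).injective 2
  let bc : Module.End (ZMod 2) (Additive U) →ₐ[ZMod 2] Module.End K (K ⊗[ZMod 2] Additive U) :=
    Module.End.baseChangeHom (ZMod 2) K (Additive U)
  haveI := Fintype.ofFinite R
  have hRK : (Nat.card R : K) ≠ 0 := by
    rw [Ne, CharP.cast_eq_zero_iff K 2]
    exact hR
  have hsum0 : ∑ x : R, bc (toL (γ x)) = 0 := by
    rw [← map_sum, show ∑ x : R, toL (γ x) = 0 from LinearMap.ext fun u => ?_, map_zero]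
    have hfix : ∀ y, toL (γ y) * ∑ x : R, toL (γ x) = ∑ x : R, toL (γ x) := fun y => by
      rw [Finset.mul_sum]
      refine Fintype.sum_equiv (Equiv.mulLeft y) _ _ fun x => ?_
      show toL (γ y) * toL (γ x) = toL (γ (y * x))
      rw [map_mul, map_mul]
    exact Additive.toMul.injective
      (h0 _ fun y => congrArg Additive.toMul (LinearMap.congr_fun (hfix y) u))
  have h := finrank_eq_mul (bc.toMonoidHom.comp (toL.comp γ)) hRK (fun v hv => by
      have h1 := LinearMap.congr_fun hsum0 v
      rw [LinearMap.sum_apply, Finset.sum_congr rfl fun x _ => show bc (toL (γ x)) v = v from hv x,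
        Finset.sum_const, Finset.card_univ, LinearMap.zero_apply, ← Nat.cast_smul_eq_nsmul K,
        ← Nat.card_eq_fintype_card, smul_eq_zero] at h1
      exact h1.resolve_left hRK)
    hl (bc (toL b)) bR (fun x => by
      show bc (toL b) * bc (toL (γ x)) = bc (toL (γ (bR x))) * bc (toL b)
      rw [← map_mul bc, ← map_mul bc]
      exact congrArg bc (LinearMap.ext fun u => congrArg Additive.ofMul (hc x u.toMul)))
    (by rw [← map_pow, ← map_pow, hbl, map_one, map_one]) hbRl hfree
  have hrank := OddLocal.finrank_range_baseChange K (toL b - 1)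
  have hbc : bc (toL b) - 1 = (toL b - 1).baseChange K := by
    rw [← map_one bc, ← map_sub bc]
    rfl
  have h1 := LinearMap.finrank_range_add_finrank_ker (toL b - 1)
  have h2 := LinearMap.finrank_range_add_finrank_ker (bc (toL b) - 1)
  rw [hbc, hrank] at h2
  rw [hbc] at h
  have hM : finrank K (K ⊗[ZMod 2] Additive U) = finrank (ZMod 2) (Additive U) :=
    Module.finrank_baseChange
  rw [hM] at h h2
  have h3 : finrank K (LinearMap.ker ((toL b - 1).baseChange K)) =
      finrank (ZMod 2) (LinearMap.ker (toL b - 1)) := by omega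
  rw [h3] at h
  have h4 : Nat.card {u // b u = u} = 2 ^ finrank (ZMod 2) (LinearMap.ker (toL b - 1)) := by
    have e : Nat.card {u // b u = u} = Nat.card (LinearMap.ker (toL b - 1)) :=
      Nat.card_congr (Equiv.subtypeEquiv Additive.ofMul fun u => by
        rw [LinearMap.mem_ker, LinearMap.sub_apply, Module.End.one_apply, sub_eq_zero]
        exact Additive.ofMul.injective.eq_iff.symm)
    rw [e, Module.natCard_eq_pow_finrank (K := ZMod 2), Nat.card_zmod]
  rw [h4, show Nat.card U = Nat.card (Additive U) from rfl,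
    Module.natCard_eq_pow_finrank (K := ZMod 2) (V := Additive U), Nat.card_zmod, h, ← pow_mul,
    mul_comm]

end Cfsg.Agent.PQHeight
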