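import Cfsg.Agent.Lib.PQHeight.Section
import Cfsg.Agent.Lib.PQHeight.FreeDim
import Cfsg.Agent.Lib.PQHeight.Action

/-!
No nonabelian group of order `pq` acts fixed-point-freely on a nontrivial `r`-on-`s`-on-module tower.
-/

set_option autoImplicit false
set_option linter.unusedSectionVars false
set_option linter.style.haveILetI false

namespace Cfsg.Agent.PQHeight

open Module Finset
open scoped commutatorElement
open Cfsg.Agent.Fpf (Inv Free fix)

section Aux

variable {K : Type*} [Field K] [IsAlgClosed K] {S : Type*} [Group S] [Finite S]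
  {V : Type*} [AddCommGroup V] [Module K V] [FiniteDimensional K V]

/-- A character of a central subgroup nontrivial at a given element. -/
theorem exists_character (ρ : S →* Module.End K V) (hρ : Function.Injective ρ)
    (hK : (Nat.card S : K) ≠ 0) (Z : Subgroup S) (hcen : Z ≤ Subgroup.center S) {z0 : S}
    (hz0 : z0 ∈ Z) (hz1 : z0 ≠ 1) :
    ∃ (ζ : S → K) (v : V), v ≠ 0 ∧ (∀ x ∈ Z, ∀ y ∈ Z, ζ (x * y) = ζ x * ζ y) ∧ ζ 1 = 1 ∧
      ζ z0 ≠ 1 ∧ ∀ z ∈ Z, ρ z v = ζ z • v := by
  classical
  have hcz : ∀ z ∈ Z, ∀ g : S, g * z = z * g := fun z hz g =>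
    Subgroup.mem_center_iff.mp (hcen hz) g
  set U := LinearMap.range (ρ z0 - 1)
  have hU0 : U ≠ ⊥ := by
    intro e
    rw [LinearMap.range_eq_bot, sub_eq_zero] at e
    exact hz1 (hρ (by rw [e, map_one]))
  have hUinv : ∀ u, ∀ v ∈ U, ρ u v ∈ U := by
    rintro u _ ⟨x, rfl⟩
    refine ⟨ρ u x, ?_⟩
    simp only [LinearMap.sub_apply, Module.End.one_apply, map_sub]
    rw [← Module.End.mul_apply, ← Module.End.mul_apply, ← map_mul, ← map_mul, hcz _ hz0 u]
  obtain ⟨W1, ⟨hW1U, hW10, hW1inv⟩, hW1min'⟩ := WellFounded.has_min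
    (wellFounded_lt (α := Submodule K V))
    {W | W ≤ U ∧ W ≠ ⊥ ∧ ∀ u, ∀ v ∈ W, ρ u v ∈ W} ⟨U, le_rfl, hU0, hUinv⟩
  have hW1min : ∀ W' : Submodule K V, W' ≤ W1 → W' ≠ ⊥ → (∀ u, ∀ v ∈ W', ρ u v ∈ W') → W' = W1 := by
    intro W' h2 h3 h4
    by_contra hne
    exact hW1min' W' ⟨h2.trans hW1U, h3, h4⟩ (lt_of_le_of_ne h2 hne)
  obtain ⟨w, hw, hw0⟩ := Submodule.exists_mem_ne_zero_of_ne_bot hW10
  have hex : ∀ z : S, ∃ c : K, z ∈ Z → ∀ v ∈ W1, ρ z v = c • v := by
    intro z
    by_cases hz : z ∈ Z
    · obtain ⟨c, hc'⟩ := ShultGross.scalar_on_minimal ρ W1 hW10 hW1min hW1inv (ρ z) (hW1inv z)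
        fun u v _ => by
          rw [← Module.End.mul_apply, ← Module.End.mul_apply, ← map_mul, ← map_mul, hcz z hz u]
      exact ⟨c, fun _ => hc'⟩
    · exact ⟨0, fun h => absurd h hz⟩
  choose ζ hζ using hex
  have hcancel : ∀ {a b : K}, a • w = b • w → a = b := fun h => smul_left_injective K hw0 h
  refine ⟨ζ, w, hw0, fun x hx y hy => hcancel ?_, hcancel ?_, fun e => hw0 ?_,
    fun z hz => hζ z hz w hw⟩
  · rw [← hζ _ (mul_mem hx hy) w hw, map_mul, Module.End.mul_apply, hζ y hy w hw, map_smul,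
      hζ x hx w hw, smul_smul, mul_comm]
  · rw [← hζ 1 (one_mem _) w hw, map_one, Module.End.one_apply, one_smul]
  · obtain ⟨x, hx⟩ := hW1U hw
    have hx' : ρ z0 x = x + w := by
      rw [← hx, LinearMap.sub_apply, Module.End.one_apply]; abel
    have hfx : ρ z0 w = w := by rw [hζ z0 hz0 w hw, e, one_smul]
    have hj : ∀ j : ℕ, (ρ z0 ^ j) x = x + j • w := by
      intro j
      induction j with
      | zero => simp
      | succ j ih =>
        rw [pow_succ', Module.End.mul_apply, ih, map_add, map_nsmul, hx', hfx, succ_nsmul']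
        abel
    have h1 := hj (Nat.card S)
    rw [← map_pow, pow_card_eq_one', map_one, Module.End.one_apply, left_eq_add,
      ← Nat.cast_smul_eq_nsmul K, smul_eq_zero] at h1
    exact h1.resolve_left hK

omit [IsAlgClosed K] [FiniteDimensional K V] [Finite S] in
/-- The stabiliser of a function on an invariant subgroup. -/
def stab {A : Type*} [Group A] (α : A →* MulAut S) (Z : Subgroup S) (hZ : Inv α Z) (f : S → K) :
    Subgroup A where
  carrier := {a | ∀ z ∈ Z, f (α a z) = f z}
  one_mem' z _ := by rw [map_one, MulAut.one_apply]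
  mul_mem' {a b} ha hb z hz := by rw [map_mul, MulAut.mul_apply, ha _ (hZ b z hz), hb z hz]
  inv_mem' {a} ha z hz := by
    have h1 := ha _ (hZ a⁻¹ z hz)
    rw [← MulAut.mul_apply, ← map_mul, mul_inv_cancel, map_one, MulAut.one_apply] at h1
    exact h1.symm

omit [IsAlgClosed K] [FiniteDimensional K V] [Finite S] in
/-- An automorphism moving generators into their closure preserves it. -/
theorem inv_closure {A : Type*} [Group A] (α : A →* MulAut S) (X : Set S)
    (h : ∀ a, ∀ x ∈ X, α a x ∈ Subgroup.closure X) : Inv α (Subgroup.closure X) := fun a g hg =>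
  (Subgroup.closure_le ((Subgroup.closure X).comap (α a).toMonoidHom)).mpr
    (fun x hx => h a x hx) hg

/-- Automorphisms as additive endomorphisms. -/
def toAddEnd (U : Type*) [CommGroup U] : MulAut U →* AddMonoid.End (Additive U) where
  toFun f := MonoidHom.toAdditive f.toMonoidHom
  map_one' := rfl
  map_mul' _ _ := rfl

end Aux

section Core

variable {A : Type*} [Group A] [Finite A] {π : A} {p q r s : ℕ}
  {S R : Type*} [Group S] [Finite S] [Group R] [Finite R]
  {K : Type*} [Field K] [IsAlgClosed K] {V : Type*} [AddCommGroup V] [Module K V]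
  [FiniteDimensional K V]

/-- The linear situation is impossible. -/
theorem absurd_core (hpq : PQ A π p q) [hr : Fact r.Prime] [hs : Fact s.Prime] (hrs : r ≠ s)
    (hrp : r ≠ p) (hrq : r ≠ q) (hsp : s ≠ p) (hsq : s ≠ q) (hS : IsPGroup s S) (hR : IsPGroup r R)
    (αS : A →* MulAut S) (αR : A →* MulAut R) (γ : R →* MulAut S)
    (hγ : ∀ a x t, αS a (γ x t) = γ (αR a x) (αS a t)) (hne : ∃ x t, γ x t ≠ t)
    (hminS : ∀ M : Subgroup S, Inv αS M → Inv γ M → M ≠ ⊤ → ∀ x, ∀ t ∈ M, γ x t = t)
    (hminR : ∀ R' : Subgroup R, Inv αR R' → R' ≠ ⊤ → ∀ x ∈ R', ∀ t, γ x t = t)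
    (hfS : Free αS) (hfR : Free αR) (ρS : S →* Module.End K V) (hρ : Function.Injective ρS)
    (ρR : R →* Module.End K V) (hγρ : ∀ x t, ρR x * ρS t = ρS (γ x t) * ρR x)
    (SA : A →* Module.End K V) (hcS : ∀ a t, SA a * ρS t = ρS (αS a t) * SA a)
    (hA : ∀ [Fintype A], ∑ a : A, SA a = 0)
    (hT : ∀ t, αS π t = t → ρS t * ∑ j ∈ range p, SA (π ^ j) = ∑ j ∈ range p, SA (π ^ j))
    (hsK : (s : K) ≠ 0) (hpK : (p : K) ≠ 0) (hqK : (q : K) ≠ 0) : False := by
  classical
  haveI := Fintype.ofFinite A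
  haveI := Fintype.ofFinite S
  haveI := Fintype.ofFinite R
  have hp := hpq.hp
  have hq := hpq.hq
  haveI := Fact.mk hp
  have hpp : π ^ p = 1 := hpq.pow_pi
  have hfin : IsOfFinOrder π := isOfFinOrder_iff_pow_eq_one.mpr ⟨p, hp.pos, hpp⟩
  have hdS : ∀ {l : ℕ}, l.Prime → l ≠ s → ∀ H : Subgroup S, ¬ l ∣ Nat.card H := by
    intro l hl hls H hd
    obtain ⟨e, he⟩ := IsPGroup.iff_card.mp (hS.to_subgroup H)
    rw [he] at hd
    exact hls ((Nat.prime_dvd_prime_iff_eq hl hs.out).mp (hl.dvd_of_dvd_pow hd))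
  have hdR : ∀ {l : ℕ}, l.Prime → l ≠ r → ∀ H : Subgroup R, ¬ l ∣ Nat.card H := by
    intro l hl hlr H hd
    obtain ⟨e, he⟩ := IsPGroup.iff_card.mp (hR.to_subgroup H)
    rw [he] at hd
    exact hlr ((Nat.prime_dvd_prime_iff_eq hl hr.out).mp (hl.dvd_of_dvd_pow hd))
  have hcardS : (Nat.card S : K) ≠ 0 := by
    obtain ⟨e, he⟩ := IsPGroup.iff_card.mp hS
    rw [he, Nat.cast_pow]
    exact pow_ne_zero _ hsK
  have hsubK : ∀ H : Subgroup S, (Nat.card H : K) ≠ 0 := fun H h0 => hcardS (by
    rw [← H.card_mul_index, Nat.cast_mul, h0, zero_mul])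
  have hγinv : ∀ x (t : S), γ x⁻¹ (γ x t) = t := fun x t => by
    rw [← MulAut.mul_apply, ← map_mul, inv_mul_cancel, map_one, MulAut.one_apply]
  have hγinv' : ∀ x (t : S), γ x (γ x⁻¹ t) = t := fun x t => by
    rw [← MulAut.mul_apply, ← map_mul, mul_inv_cancel, map_one, MulAut.one_apply]
  have hαinv : ∀ a (t : S), αS a (αS a⁻¹ t) = t := fun a t => by
    rw [← MulAut.mul_apply, ← map_mul, mul_inv_cancel, map_one, MulAut.one_apply]
  have hαRinv : ∀ a (x : R), αR a (αR a⁻¹ x) = x := fun a t => by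
    rw [← MulAut.mul_apply, ← map_mul, mul_inv_cancel, map_one, MulAut.one_apply]
  -- the fixed points of `R`
  let Z0 : Subgroup S :=
    { carrier := {t | ∀ x, γ x t = t}
      one_mem' := fun x => map_one (γ x)
      mul_mem' := fun {a b} ha hb x => by rw [map_mul, ha x, hb x]
      inv_mem' := fun {a} ha x => by rw [map_inv, ha x] }
  have hZ0 : ∀ {t}, t ∈ Z0 ↔ ∀ x, γ x t = t := Iff.rfl
  have hZ0α : Inv αS Z0 := fun a t ht => hZ0.mpr fun x => by
    have h1 := hγ a (αR a⁻¹ x) t
    rw [hZ0.mp ht, hαRinv] at h1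
    exact h1.symm
  have hZ0γ : Inv γ Z0 := fun x t ht => by rw [hZ0.mp ht x]; exact ht
  have hne0 : Z0 ≠ ⊤ := fun e => by
    obtain ⟨x, t, hxt⟩ := hne
    exact hxt (hZ0.mp (e ▸ Subgroup.mem_top t) x)
  haveI : Nontrivial S := by
    by_contra h
    rw [not_nontrivial_iff_subsingleton] at h
    exact hne0 (Subsingleton.elim _ _)
  have hgen : Subgroup.closure {u | ∃ x t, t⁻¹ * γ x t = u} = ⊤ := by
    by_contra hMne
    obtain ⟨x, t, hxt⟩ := hne
    have hc := hminS _ (inv_closure αS _ (by
        rintro a _ ⟨y, u, rfl⟩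
        exact Subgroup.subset_closure ⟨αR a y, αS a u, by rw [map_mul, map_inv, hγ]⟩))
      (inv_closure γ _ (by
        rintro z _ ⟨y, u, rfl⟩
        rw [show γ z (u⁻¹ * γ y u) = (u⁻¹ * γ z u)⁻¹ * (u⁻¹ * γ (z * y) u) by
          rw [map_mul, map_inv, map_mul, MulAut.mul_apply, mul_inv_rev, inv_inv, mul_assoc,
            mul_inv_cancel_left]]
        exact mul_mem (inv_mem (Subgroup.subset_closure ⟨z, u, rfl⟩))
          (Subgroup.subset_closure ⟨z * y, u, rfl⟩))) hMne x (t⁻¹ * γ x t)
      (Subgroup.subset_closure ⟨x, t, rfl⟩)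
    set c := t⁻¹ * γ x t with hcdef
    have hxt' : γ x t = t * c := by rw [hcdef, mul_inv_cancel_left]
    have hpow : ∀ j : ℕ, γ (x ^ j) t = t * c ^ j := by
      intro j
      induction j with
      | zero => simp
      | succ j ih =>
        rw [pow_succ', map_mul, MulAut.mul_apply, ih, map_mul, map_pow, hc, hxt', mul_assoc,
          ← pow_succ']
    obtain ⟨e, he⟩ := IsPGroup.iff_card.mp hR
    have h1 := hpow (r ^ e)
    rw [← he, pow_card_eq_one', map_one, MulAut.one_apply, left_eq_mul] at h1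
    obtain ⟨f, hf⟩ := IsPGroup.iff_card.mp hS
    have hc1 : c = 1 := by
      rw [← orderOf_eq_one_iff]
      refine Nat.eq_one_of_dvd_coprimes ?_ (orderOf_dvd_of_pow_eq_one h1) (_root_.orderOf_dvd_natCard c)
      rw [he, hf]
      exact ((Nat.coprime_primes hr.out hs.out).mpr hrs).pow e f
    exact hxt (by rw [hxt', hc1, mul_one])
  have hd : ∀ u, (∀ x, u⁻¹ * γ x u ∈ Z0) → u ∈ Z0 := by
    intro u hu
    obtain ⟨z, hz, hfix⟩ := Fpf.exists_fixed_in_coset hR hZ0γ (hdS hr.out hrs _) hu
    have h1 := mul_mem (hZ0.mpr hfix) (inv_mem hz)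
    rwa [mul_inv_rev, inv_inv, mul_inv_cancel_left] at h1
  haveI : Group.IsNilpotent S := hS.isNilpotent
  have hcomZ : ∀ x w : S, ⁅x, w⁆ ∈ Z0 := fun x w =>
    hZ0.mpr fun y => hminS _ (Fpf.inv_char αS (_root_.commutator S))
      (Fpf.inv_char γ (_root_.commutator S))
      (Group.IsSolvable.commutator_lt_top_of_nontrivial S).ne y _
      (by rw [_root_.commutator_def]; exact Subgroup.commutator_mem_commutator trivial trivial)
  haveI hZ0n : Z0.Normal := ⟨fun z hz g => by
    rw [show g * z * g⁻¹ = ⁅g, z⁆ * z by simp only [commutatorElement_def]; group]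
    exact Z0.mul_mem (hcomZ _ _) hz⟩
  have hcen : Z0 ≤ Subgroup.center S := by
    intro z hz
    rw [Subgroup.mem_center_iff]
    suffices h : (⊤ : Subgroup S) ≤ Subgroup.centralizer {z} from fun g =>
      ((Subgroup.mem_centralizer_singleton_iff.mp (h (Subgroup.mem_top g))))
    rw [← hgen, Subgroup.closure_le]
    rintro _ ⟨x, t, rfl⟩
    rw [SetLike.mem_coe, Subgroup.mem_centralizer_singleton_iff]
    have h1 := hZ0.mp (hZ0n.conj_mem z hz t) x
    rw [map_mul, map_mul, map_inv, hZ0.mp hz x] at h1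
    calc t⁻¹ * γ x t * z = t⁻¹ * (γ x t * z * (γ x t)⁻¹) * γ x t := by group
      _ = t⁻¹ * (t * z * t⁻¹) * γ x t := by rw [h1]
      _ = z * (t⁻¹ * γ x t) := by group
  -- no operator of prime order is fixed-point-free on the section
  have hnocomm : ∀ (a : A) (l : ℕ), l.Prime → a ^ l = 1 → l ≠ r → l ≠ s →
      (∀ x, αR a x = x → ∀ t, γ x t = t) → (∀ t, αS a t = t → t ∈ Z0) → False := by
    intro a l hl ha hlr hls hKR hKS
    haveI := Fact.mk hl
    letI : CommGroup (S ⧸ Z0) :=
      { (inferInstance : Group (S ⧸ Z0)) with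
        mul_comm := fun x y => by
          obtain ⟨x, rfl⟩ := QuotientGroup.mk_surjective x
          obtain ⟨y, rfl⟩ := QuotientGroup.mk_surjective y
          rw [← commutatorElement_eq_one_iff_mul_comm, ← QuotientGroup.mk'_apply,
            ← QuotientGroup.mk'_apply, ← map_commutatorElement, QuotientGroup.mk'_apply,
            QuotientGroup.eq_one_iff]
          exact hcomZ x y }
    have hK : Inv αR γ.ker := fun c x hx => MonoidHom.mem_ker.mpr (MulEquiv.ext fun t => by
      have h1 := hγ c x (αS c⁻¹ t)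
      rw [MonoidHom.mem_ker.mp hx, MulAut.one_apply, hαinv] at h1
      exact h1.symm)
    let ρ' : R ⧸ γ.ker →* AddMonoid.End (Additive (S ⧸ Z0)) :=
      QuotientGroup.lift γ.ker ((toAddEnd (S ⧸ Z0)).comp (Fpf.quot Z0 hZ0γ)) fun x hx =>
        MonoidHom.mem_ker.mpr (AddMonoidHom.ext fun u => Additive.toMul.injective (by
          obtain ⟨g, hg⟩ := QuotientGroup.mk_surjective u.toMul
          show Fpf.quot Z0 hZ0γ x u.toMul = u.toMul
          rw [← hg, Fpf.quot_mk, MonoidHom.mem_ker.mp hx, MulAut.one_apply]))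
    let SW : A →* AddMonoid.End (Additive (S ⧸ Z0)) :=
      (toAddEnd (S ⧸ Z0)).comp (Fpf.quot Z0 hZ0α)
    haveI : Finite (Additive (S ⧸ Z0)) := inferInstanceAs (Finite (S ⧸ Z0))
    have hcomp : Fpf.Compat (Fpf.quot γ.ker hK) ρ' SW := by
      intro c y u
      obtain ⟨x, rfl⟩ := QuotientGroup.mk_surjective y
      refine Additive.toMul.injective ?_
      obtain ⟨g, hg⟩ := QuotientGroup.mk_surjective u.toMul
      show Fpf.quot Z0 hZ0α c (Fpf.quot Z0 hZ0γ x u.toMul) =
        Fpf.quot Z0 hZ0γ (αR c x) (Fpf.quot Z0 hZ0α c u.toMul)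
      rw [← hg, Fpf.quot_mk, Fpf.quot_mk, Fpf.quot_mk, Fpf.quot_mk, hγ]
    have hz : ∀ u : Additive (S ⧸ Z0), Fpf.aSum SW a l u = 0 := by
      intro u
      set w := Fpf.aSum SW a l u with hw
      obtain ⟨g, hg⟩ := QuotientGroup.mk_surjective w.toMul
      have h1 : Fpf.quot Z0 hZ0α a w.toMul = w.toMul :=
        congrArg Additive.toMul (Fpf.S_aSum ha u : SW a w = w)
      rw [← hg, Fpf.quot_mk] at h1
      obtain ⟨z, hz, hfix⟩ := fixed_rep hl αS ha Z0 (hZ0α a) (hdS hl hls _)
        (QuotientGroup.eq.mp h1.symm)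
      have h2 := mul_mem (hKS z hfix) (inv_mem hz)
      rw [mul_inv_rev, inv_inv, mul_inv_cancel_left] at h2
      exact Additive.toMul.injective (hg.symm.trans ((QuotientGroup.eq_one_iff g).mpr h2))
    have hfix := fun u => Fpf.fixed_of_aSum_eq_zero hcomp ⊤ a l hl.pos (fun _ _ _ _ => trivial)
      (fun i hi hi0 y _ hy => by
        obtain ⟨x, rfl⟩ := QuotientGroup.mk_surjective y
        have h1 := Fpf.fixed_of_pow (Fpf.quot γ.ker hK) ha hi hi0 hy
        rw [Fpf.quot_mk] at h1
        obtain ⟨z, hz', hzfix⟩ := fixed_rep hl αR ha γ.ker (hK a) (hdR hl hlr _)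
          (QuotientGroup.eq.mp h1.symm)
        have h2 := mul_mem (MonoidHom.mem_ker.mpr (MulEquiv.ext (hKR z hzfix))) (inv_mem hz')
        rw [mul_inv_rev, inv_inv, mul_inv_cancel_left] at h2
        exact (QuotientGroup.eq_one_iff x).mpr h2)
      (by
        obtain ⟨e, he⟩ := IsPGroup.iff_card.mp ((hR.to_quotient γ.ker).to_subgroup ⊤)
        obtain ⟨f, hf⟩ := IsPGroup.iff_card.mp (hS.to_quotient Z0)
        rw [he, show Nat.card (Additive (S ⧸ Z0)) = s ^ f from hf]
        exact ((Nat.coprime_primes hr.out hs.out).mpr hrs).pow e f)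
      (x := u) (fun _ _ => hz _)
    obtain ⟨x, t, hxt⟩ := hne
    refine hxt (hZ0.mp (hd t fun y => ?_) x)
    have h1 : ((γ y t : S) : S ⧸ Z0) = (t : S ⧸ Z0) :=
      congrArg Additive.toMul (hfix (Additive.ofMul (t : S ⧸ Z0)) (y : R ⧸ γ.ker) trivial)
    exact QuotientGroup.eq.mp h1.symm
  -- fixed points of `π`
  let T : Subgroup S := fix αS π
  have hT' : ∀ {t}, t ∈ T ↔ αS π t = t := Iff.rfl
  obtain ⟨b0, hb0⟩ := hpq.exists_other
  have hCR : (∀ x, αR π x = x) ∨ ∀ x, αR π x = x → ∀ t, γ x t = t := by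
    by_cases h : fix αR π = ⊤
    · exact Or.inl fun x => show x ∈ fix αR π by rw [h]; trivial
    · exact Or.inr (hminR _ (hpq.inv_fix αR) h)
  have hTcase : (∀ x, αR π x = x) → ∀ t ∈ T, t ∈ Z0 := by
    intro hI
    have hTγ : Inv γ T := fun x t ht => hT'.mpr (by rw [hγ, hI, hT'.mp ht])
    by_cases h : T = ⊤
    · exact (hnocomm b0 q hq (hpq.pow_other hb0) hrq.symm hsq.symm
        (fun x hx t => by rw [hfR x (hpq.fix_all αR hb0 (hI x) hx), map_one, MulAut.one_apply])
        (fun t ht => by
          rw [hfS t (hpq.fix_all αS hb0 (hT'.mp (h ▸ Subgroup.mem_top t)) ht)]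
          exact one_mem _)).elim
    · exact fun t ht => hZ0.mpr fun x => hminS T (hpq.inv_fix αS) hTγ h x t ht
  have hTII : (∀ x, αR π x = x → ∀ t, γ x t = t) → ∃ t ∈ T, t ∉ Z0 := by
    intro hII
    by_contra hcon
    push Not at hcon
    exact hnocomm π p hp hpp hrp.symm hsp.symm hII fun t ht => hcon t (hT'.mpr ht)
  -- eigenvectors
  have hAsum : ∀ (Z : Subgroup S) (hZ : Inv αS Z) (f : S → K),
      (∀ x ∈ Z, ∀ y ∈ Z, f (x * y) = f x * f y) → f 1 = 1 → ∀ v : V,
      (∀ z ∈ Z, ρS z v = f z • v) →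
      ∑ a ∈ Finset.univ.filter (fun a => a ∈ stab αS Z hZ f), SA a v = 0 := by
    intro Z hZ f hfm hf1 v hv
    exact ShultGross.select αS ρS SA hcS Z f hfm hf1 (hsubK Z) Finset.univ (fun a => a)
      (fun a _ x hx => hZ a⁻¹ x hx) hv (by rw [← LinearMap.sum_apply, hA, LinearMap.zero_apply])
      _ (fun a _ => ⟨fun h => (stab αS Z hZ f).inv_mem h,
        fun h => inv_mem_iff.mp (show a⁻¹ ∈ stab αS Z hZ f from h)⟩)
  have hstab : ∀ (Z : Subgroup S) (hZ : Inv αS Z) (f : S → K),
      (∀ x ∈ Z, ∀ y ∈ Z, f (x * y) = f x * f y) → f 1 = 1 → ∀ v0 : V, v0 ≠ 0 →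
      (∀ z ∈ Z, ρS z v0 = f z • v0) → π ∉ stab αS Z hZ f →
      ∃ b, b ∉ Subgroup.zpowers π ∧ stab αS Z hZ f = Subgroup.zpowers b ∧
        ∀ v : V, (∀ z ∈ Z, ρS z v = f z • v) → ∑ j ∈ range q, SA (b ^ j) v = 0 := by
    intro Z hZ f hfm hf1 v0 hv0 hv0e hπn
    rcases hpq.avoid_cases hπn with e | ⟨b, hb, e⟩
    · exfalso
      have h1 := hAsum Z hZ f hfm hf1 v0 hv0e
      rw [e, Finset.sum_eq_single (1 : A)] at h1
      · rw [map_one, Module.End.one_apply] at h1; exact hv0 h1
      · intro a ha ha1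
        exact absurd (Subgroup.mem_bot.mp (Finset.mem_filter.mp ha).2) ha1
      · intro h2
        exact absurd (Finset.mem_filter.mpr ⟨Finset.mem_univ _, one_mem _⟩) h2
    · refine ⟨b, hb, e, fun v hv => ?_⟩
      have h1 := hAsum Z hZ f hfm hf1 v hv
      rw [e] at h1
      have hfb : IsOfFinOrder b :=
        isOfFinOrder_iff_pow_eq_one.mpr ⟨q, hq.pos, hpq.pow_other hb⟩
      rw [show (Finset.univ.filter fun a => a ∈ Subgroup.zpowers b) =
          (range q).image (fun j => b ^ j) by
        ext a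
        simp only [Finset.mem_filter, Finset.mem_univ, true_and, Finset.mem_image, Finset.mem_range]
        refine ⟨fun h => ?_, fun ⟨j, _, hj⟩ => hj ▸ Subgroup.npow_mem_zpowers b j⟩
        obtain ⟨j, rfl⟩ := hfb.mem_powers_iff_mem_zpowers.mpr h
        refine ⟨j % q, Nat.mod_lt _ hq.pos, ?_⟩
        rw [← hpq.other b hb, pow_mod_orderOf],
        Finset.sum_image fun i hi j hj h => pow_injOn_Iio_orderOf
          (by rw [hpq.other b hb]; exact Finset.mem_range.mp hi)
          (by rw [hpq.other b hb]; exact Finset.mem_range.mp hj) h] at h1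
      exact h1
  have hcSap : ∀ a t v, SA a (ρS t v) = ρS (αS a t) (SA a v) := fun a t v =>
    LinearMap.congr_fun (hcS a t) v
  have hfixpow : ∀ t, αS π t = t → ∀ j : ℕ, αS (π ^ j) t = t := fun t ht j =>
    Fpf.fix_zpow αS ht (Subgroup.npow_mem_zpowers π j)
  have hkill : ∀ (Z : Subgroup S) (hZ : Inv αS Z) (f : S → K), Z ≤ Subgroup.center S →
      (∀ x ∈ Z, ∀ y ∈ Z, f (x * y) = f x * f y) → f 1 = 1 → π ∉ stab αS Z hZ f →
      ∀ t ∈ T, ∀ v : V, (∀ z ∈ Z, ρS z v = f z • v) → ρS t v = v := by
    intro Z hZ f hZc hfm hf1 hπn t ht v hv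
    have hw : ∀ z ∈ Z, ρS z (ρS t v - v) = f z • (ρS t v - v) := by
      intro z hz
      rw [map_sub, ← Module.End.mul_apply, ← map_mul, ← Subgroup.mem_center_iff.mp (hZc hz) t,
        map_mul, Module.End.mul_apply, hv z hz, map_smul, smul_sub]
    have h0 : ∑ j ∈ range p, SA (π ^ j) (ρS t v - v) = 0 := by
      simp only [map_sub, Finset.sum_sub_distrib, hcSap, hfixpow t (hT'.mp ht)]
      rw [← map_sum, ← LinearMap.sum_apply, ← Module.End.mul_apply, hT t (hT'.mp ht), sub_self]
    have h1 := ShultGross.select αS ρS SA hcS Z f hfm hf1 (hsubK Z) (range p) (fun j => π ^ j)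
      (fun j _ x hx => hZ _ x hx) hw h0 (fun j => j = 0) (fun j hj => by
        constructor
        · rintro rfl x _
          rw [pow_zero, inv_one, map_one, MulAut.one_apply]
        · intro h
          by_contra hj0
          refine hπn ?_
          have hm : π ^ j ∈ stab αS Z hZ f :=
            inv_mem_iff.mp (show (π ^ j)⁻¹ ∈ stab αS Z hZ f from h)
          obtain ⟨k, hk⟩ := exists_pow_eq_self_of_coprime (x := π) (n := j) (by
            rw [hpq.hπ]
            exact (hp.coprime_iff_not_dvd.mpr fun hdv => hj0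
              (Nat.eq_zero_of_dvd_of_lt hdv (Finset.mem_range.mp hj))).symm)
          exact hk ▸ pow_mem hm k)
    rw [Finset.filter_eq', if_pos (Finset.mem_range.mpr hp.pos), Finset.sum_singleton, pow_zero,
      map_one, Module.End.one_apply, sub_eq_zero] at h1
    exact h1
  have hρRS : ∀ x t v, ρR x (ρS t v) = ρS (γ x t) (ρR x v) := fun x t v =>
    LinearMap.congr_fun (hγρ x t) v
  by_cases hab : ∀ x y : S, x * y = y * x
  · -- the abelian case
    have htop : (⊤ : Subgroup S) ≤ Subgroup.center S := fun x _ =>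
      Subgroup.mem_center_iff.mpr fun g => hab g x
    have htopI : Inv αS (⊤ : Subgroup S) := fun _ _ _ => trivial
    letI : CommGroup S := { ‹Group S› with mul_comm := hab }
    let N : S →* S :=
      { toFun := fun t => ∏ x : R, γ x t
        map_one' := by simp
        map_mul' := fun a b => by simp [Finset.prod_mul_distrib] }
    have hN : ∀ t, ∏ x : R, γ x t = 1 := by
      intro t
      have h1 : (⊤ : Subgroup S) ≤ N.ker := by
        rw [← hgen, Subgroup.closure_le]
        rintro _ ⟨y, u, rfl⟩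
        rw [SetLike.mem_coe, MonoidHom.mem_ker, map_mul, map_inv, inv_mul_eq_one]
        show ∏ x : R, γ x u = ∏ x : R, γ x (γ y u)
        exact (Fintype.prod_equiv (Equiv.mulRight y) _ _ fun x => by
          show γ x (γ y u) = γ (x * y) u
          rw [map_mul, MulAut.mul_apply]).symm
      exact h1 (Subgroup.mem_top t)
    have hZ0bot : ∀ z ∈ Z0, z = 1 := by
      intro z hz
      have h1 := hN z
      rw [Finset.prod_congr rfl fun x _ => hZ0.mp hz x, Finset.prod_const, Finset.card_univ] at h1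
      obtain ⟨e, he⟩ := IsPGroup.iff_card.mp hR
      obtain ⟨f, hf⟩ := IsPGroup.iff_card.mp hS
      rw [← Nat.card_eq_fintype_card] at h1
      rw [← orderOf_eq_one_iff]
      refine Nat.eq_one_of_dvd_coprimes ?_ (orderOf_dvd_of_pow_eq_one h1) (_root_.orderOf_dvd_natCard z)
      rw [he, hf]
      exact ((Nat.coprime_primes hr.out hs.out).mpr hrs).pow e f
    -- twisting by `R`
    have htwist : ∀ (f : S → K) (v : V), v ≠ 0 → (∀ z, ρS z v = f z • v) → ∀ x,
        ρR x⁻¹ v ≠ 0 ∧ ∀ z, ρS z (ρR x⁻¹ v) = f (γ x z) • ρR x⁻¹ v := by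
      intro f v hv0 hv x
      refine ⟨fun h => hv0 ?_, fun z => ?_⟩
      · have h1 := congrArg (ρR x) h
        rwa [← Module.End.mul_apply, ← map_mul, mul_inv_cancel, map_one, Module.End.one_apply,
          map_zero] at h1
      · have h1 := hρRS x⁻¹ (γ x z) v
        rw [hγinv] at h1
        rw [← h1, hv, map_smul]
    obtain ⟨t0, ht0, ht01⟩ : ∃ t0 : S, ((∀ x, αR π x = x → ∀ t, γ x t = t) → t0 ∈ T) ∧ t0 ≠ 1 := by
      by_cases hII : ∀ x, αR π x = x → ∀ t, γ x t = t
      · obtain ⟨t, ht, htn⟩ := hTII hII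
        exact ⟨t, fun _ => ht, fun e => htn (e ▸ one_mem _)⟩
      · obtain ⟨t, ht⟩ := exists_ne (1 : S)
        exact ⟨t, fun h => absurd h hII, ht⟩
    obtain ⟨f, v0, hv0, hfm', hf1, hft0, hv0e'⟩ :=
      exists_character ρS hρ hcardS ⊤ htop (Subgroup.mem_top t0) ht01
    have hfm : ∀ x y, f (x * y) = f x * f y := fun x y => hfm' x trivial y trivial
    have hv0e : ∀ z, ρS z v0 = f z • v0 := fun z => hv0e' z trivial
    let Kf : Subgroup R :=
      { carrier := {x | ∀ z, f (γ x z) = f z}
        one_mem' := fun z => by rw [map_one, MulAut.one_apply]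
        mul_mem' := fun {a b} ha hb z => by rw [map_mul, MulAut.mul_apply, ha, hb]
        inv_mem' := fun {a} ha z => by
          have h1 := ha (γ a⁻¹ z)
          rw [hγinv'] at h1
          exact h1.symm }
    have hKf : ∀ {x}, x ∈ Kf ↔ ∀ z, f (γ x z) = f z := Iff.rfl
    have hKfinv : ∀ a, (∀ z, f (αS a z) = f z) → ∀ x ∈ Kf, αR a x ∈ Kf := fun a ha x hx => by
      refine hKf.mpr fun z => ?_
      rw [← hαinv a z, ← hγ, ha, ha]
      exact hx _
    rcases hCR with hI | hII
    · by_cases hπf : π ∈ stab αS ⊤ htopI f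
      · -- moved elements fill the group
        have hinj : Function.Injective fun t : S => t⁻¹ * αS π t := by
          intro a b h
          have h' : a⁻¹ * αS π a = b⁻¹ * αS π b := h
          have h2 : αS π (a / b) = a / b := by
            rw [map_div]
            rw [inv_mul_eq_iff_eq_mul] at h'
            rw [h', mul_div_assoc, mul_comm b⁻¹, mul_div_cancel_left, div_eq_mul_inv]
          exact div_eq_one.mp (hZ0bot _ (hTcase hI _ (hT'.mpr h2)))
        obtain ⟨t, ht⟩ := Finite.injective_iff_surjective.mp hinj t0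
        refine hft0 ?_
        rw [← ht]
        show f (t⁻¹ * αS π t) = 1
        rw [hfm, hπf t trivial, ← hfm, inv_mul_cancel, hf1]
      · obtain ⟨b, hb, hbst, -⟩ := hstab ⊤ htopI f hfm' hf1 v0 hv0 hv0e' hπf
        have hbf : ∀ z, f (αS b z) = f z := fun z =>
          (show b ∈ stab αS ⊤ htopI f by rw [hbst]; exact Subgroup.mem_zpowers b) z trivial
        -- every conjugate character has the same stabiliser
        have hsame : ∀ x z, f (γ x (αS b z)) = f (γ x z) := by
          intro x
          let fx : S → K := fun z => f (γ x z)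
          have hπx : π ∉ stab αS ⊤ htopI fx := by
            intro h
            refine hπf fun z _ => ?_
            have h1 := h (γ x⁻¹ z) trivial
            simp only [fx] at h1
            rwa [hγ, hI, hγinv', hγinv'] at h1
          obtain ⟨c, hc, hcst, -⟩ := hstab ⊤ htopI fx
            (fun a _ b _ => by simp only [fx]; rw [map_mul, hfm])
            (by simp only [fx]; rw [map_one, hf1]) _ (htwist f v0 hv0 hv0e x).1
            (fun z _ => (htwist f v0 hv0 hv0e x).2 z) hπx
          have hcf : ∀ z, f (γ x (αS c z)) = f (γ x z) := fun z =>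
            (show c ∈ stab αS ⊤ htopI fx by rw [hcst]; exact Subgroup.mem_zpowers c) z trivial
          by_cases hbc : b ∈ Subgroup.zpowers c
          · intro z
            exact (show b ∈ stab αS ⊤ htopI fx by rw [hcst]; exact hbc) z trivial
          exfalso
          -- the stabiliser of the orbit
          let Ω : Subgroup A :=
            { carrier := {a | ∃ y, ∀ z, f (αS a z) = f (γ y z)}
              one_mem' := ⟨1, fun z => by simp⟩
              mul_mem' := fun {a a'} ⟨y, hy⟩ ⟨y', hy'⟩ => ⟨y' * αR a'⁻¹ y, fun z => by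
                have h1 := hγ a'⁻¹ y (αS a' z)
                rw [show αS a'⁻¹ (αS a' z) = z by
                  rw [← MulAut.mul_apply, ← map_mul, inv_mul_cancel, map_one, MulAut.one_apply]] at h1
                rw [map_mul, MulAut.mul_apply, hy, map_mul, MulAut.mul_apply, ← h1, ← hy', hαinv]⟩
              inv_mem' := fun {a} ⟨y, hy⟩ => ⟨αR a y⁻¹, fun z => by
                have h1 := hy (γ y⁻¹ (αS a⁻¹ z))
                rw [hγinv', hγ, hαinv] at h1
                exact h1.symm⟩ }
          have hbΩ : b ∈ Ω := ⟨1, fun z => by rw [hbf, map_one, MulAut.one_apply]⟩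
          have hcΩ : c ∈ Ω := ⟨x * (αR c⁻¹ x)⁻¹, fun z => by
            rw [map_mul, MulAut.mul_apply]
            set w := γ (αR c⁻¹ x)⁻¹ z with hw
            rw [← hcf w]
            congr 1
            have h1 := hγ c (αR c⁻¹ x) w
            rw [hw, hγinv', hαRinv] at h1
            exact h1⟩
          have hπΩ : π ∈ Ω := by
            by_contra hn
            rcases hpq.avoid_cases hn with e | ⟨d, hd', e⟩
            · rw [e, Subgroup.mem_bot] at hbΩ
              exact hb (hbΩ ▸ one_mem _)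
            · rw [e] at hbΩ hcΩ
              refine hbc ?_
              rwa [Subgroup.eq_of_le_of_card_ge (Subgroup.zpowers_le.mpr hcΩ)
                (le_of_eq (by rw [Nat.card_zpowers, Nat.card_zpowers, hpq.other c hc, hpq.other d hd']))]
          obtain ⟨y, hy⟩ := hπΩ
          have hiter : ∀ j : ℕ, ∀ z, f (αS (π ^ j) z) = f (γ (y ^ j) z) := by
            intro j
            induction j with
            | zero => intro z; simp
            | succ j ih =>
              intro z
              rw [pow_succ, map_mul, MulAut.mul_apply, ih, pow_succ', map_mul, MulAut.mul_apply,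
                ← hy, hγ, hI]
          have hyp : y ^ p ∈ Kf := hKf.mpr fun z => by
            rw [← hiter p z, hpp, map_one, MulAut.one_apply]
          obtain ⟨k, hk⟩ := exists_pow_eq_self_of_coprime (x := y) (n := p) (by
            obtain ⟨e, he⟩ := IsPGroup.iff_orderOf.mp hR y
            rw [he]
            exact ((Nat.coprime_primes hp hr.out).mpr hrp.symm).pow_right e)
          have hyK : y ∈ Kf := hk ▸ pow_mem hyp k
          exact hπf fun z _ => by rw [hy, hKf.mp hyK]
        have hall : ∀ x, x ∈ Kf := by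
          intro x
          have hmem : x⁻¹ * αR b x ∈ Kf := hKf.mpr fun z => by
            rw [map_mul, MulAut.mul_apply]
            set w := γ (αR b x) z with hw
            have h1 : f (γ x⁻¹ w) = f (γ x⁻¹ (αS b (αS b⁻¹ w))) := by rw [hαinv]
            rw [h1, hsame x⁻¹, hw]
            have h2 := hγ b⁻¹ (αR b x) z
            rw [show αR b⁻¹ (αR b x) = x by
              rw [← MulAut.mul_apply, ← map_mul, inv_mul_cancel, map_one, MulAut.one_apply]] at h2
            rw [h2, hγinv, ← hbf, hαinv]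
          obtain ⟨z, hz, hfix⟩ := fixed_rep hq αR (hpq.pow_other hb) Kf (hKfinv b hbf)
            (hdR hq hrq.symm _) hmem
          rw [hfR z (hpq.fix_all αR hb (hI z) hfix), mul_one] at hz
          exact inv_mem_iff.mp hz
        refine hft0 ?_
        let M : Subgroup S :=
          { carrier := {t | f t = 1}
            one_mem' := hf1
            mul_mem' := fun {a b} ha hb => by
              show f (a * b) = 1
              rw [hfm, (ha : f a = 1), (hb : f b = 1), mul_one]
            inv_mem' := fun {a} ha => by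
              show f a⁻¹ = 1
              have h1 : f (a⁻¹ * a) = f a⁻¹ * f a := hfm _ _
              rw [inv_mul_cancel, hf1, (ha : f a = 1), mul_one] at h1
              exact h1.symm }
        have hM : (⊤ : Subgroup S) ≤ M := by
          rw [← hgen, Subgroup.closure_le]
          rintro _ ⟨x, t, rfl⟩
          show f (t⁻¹ * γ x t) = 1
          rw [hfm, hKf.mp (hall x), ← hfm, inv_mul_cancel, hf1]
        exact hM (Subgroup.mem_top t0)
    · have ht0T : t0 ∈ T := ht0 hII
      have hfT : ∀ (g : S → K) (v : V), v ≠ 0 → (∀ x y, g (x * y) = g x * g y) → g 1 = 1 →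
          (∀ z, ρS z v = g z • v) → π ∉ stab αS ⊤ htopI g → g t0 = 1 := by
        intro g v hv hgm hg1 hve hn
        have h1 := hkill ⊤ htopI g htop (fun a _ b _ => hgm a b) hg1 hn t0 ht0T v fun z _ => hve z
        rw [hve] at h1
        exact smul_left_injective K hv (h1.trans (one_smul K v).symm)
      have hπf : π ∈ stab αS ⊤ htopI f := by
        by_contra hn
        exact hft0 (hfT f v0 hv0 hfm hf1 hv0e hn)
      have hπf' : ∀ z, f (αS π z) = f z := fun z => hπf z trivial
      have hval : ∀ x, x ∉ Kf → f (γ x t0) = 1 := by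
        intro x hx
        refine hfT (fun z => f (γ x z)) _ (htwist f v0 hv0 hv0e x).1
          (fun a b => by rw [map_mul, hfm]) (by rw [map_one, hf1]) (htwist f v0 hv0 hv0e x).2
          fun hfix => hx ?_
        have h3 : ∀ w, f (γ (αR π x) w) = f (γ x w) := fun w => by
          have h2 := hγ π x (αS π⁻¹ w)
          rw [hαinv] at h2
          have h1 := hfix (αS π⁻¹ w) trivial
          simp only [hαinv] at h1
          rw [← h2, hπf']
          exact h1.symm
        have hmem' : αR π x * x⁻¹ ∈ Kf := hKf.mpr fun z => by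
          rw [map_mul, MulAut.mul_apply, h3, hγinv']
        obtain ⟨z, hz, hzfix⟩ := fixed_rep hp αR hpp Kf (hKfinv π hπf') (hdR hp hrp.symm _)
          (g := x⁻¹) (by
            have h5 := inv_mem hmem'
            rw [mul_inv_rev, inv_inv, ← map_inv] at h5
            rwa [inv_inv])
        have hzK : z ∈ Kf := hKf.mpr fun w => by rw [hII z hzfix]
        have h2 := mul_mem hz (inv_mem hzK)
        rwa [inv_inv, mul_inv_cancel_right] at h2
      have h1 : ∏ x : R, f (γ x t0) = 1 := by
        let F : S →* K := { toFun := f, map_one' := hf1, map_mul' := hfm }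
        have h2 := map_prod F (fun x : R => γ x t0) Finset.univ
        rw [hN t0, map_one] at h2
        exact h2.symm
      rw [← Finset.prod_filter_mul_prod_filter_not Finset.univ (fun x => x ∈ Kf),
        Finset.prod_congr rfl (fun x hx => hKf.mp (Finset.mem_filter.mp hx).2 t0),
        Finset.prod_eq_one (fun x hx => hval x (Finset.mem_filter.mp hx).2), mul_one,
        Finset.prod_const] at h1
      rw [show (Finset.univ.filter fun x => x ∈ Kf).card = Nat.card Kf by
        rw [Nat.card_eq_fintype_card, Fintype.card_subtype]] at h1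
      have h2 : f t0 ^ Nat.card S = 1 := by
        let F : S →* K := { toFun := f, map_one' := hf1, map_mul' := hfm }
        show F t0 ^ Nat.card S = 1
        rw [← map_pow, pow_card_eq_one', map_one]
      obtain ⟨e, he⟩ := IsPGroup.iff_card.mp (hR.to_subgroup Kf)
      obtain ⟨g, hg⟩ := IsPGroup.iff_card.mp hS
      have h3 := pow_gcd_eq_one.mpr ⟨h1, h2⟩
      rw [he, hg, ((Nat.coprime_primes hr.out hs.out).mpr hrs).pow e g, pow_one] at h3
      exact hft0 h3
  · -- the nonabelian case
    push Not at hab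
    obtain ⟨u0, w0, huw⟩ := hab
    set z0 := ⁅u0, w0⁆ with hz0
    have hz01 : z0 ≠ 1 := fun e => huw (commutatorElement_eq_one_iff_mul_comm.mp e)
    obtain ⟨ζ, v0, hv0, hζm, hζ1, hζz0, hv0e⟩ :=
      exists_character ρS hρ hcardS Z0 hcen (hcomZ u0 w0) hz01
    have hcom_l : ∀ x y w : S, ⁅x * y, w⁆ = ⁅y, w⁆ * ⁅x, w⁆ := fun x y w => by
      rw [show ⁅x * y, w⁆ = x * ⁅y, w⁆ * x⁻¹ * ⁅x, w⁆ by simp only [commutatorElement_def]; group,
        Subgroup.mem_center_iff.mp (hcen (hcomZ y w)) x, mul_inv_cancel_right]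
    let Z1 : Subgroup S :=
      { carrier := {x | ∀ w, ζ ⁅x, w⁆ = 1}
        one_mem' := fun w => by rw [commutatorElement_one_left, hζ1]
        mul_mem' := fun {x y} hx hy w => by
          rw [hcom_l, hζm _ (hcomZ _ _) _ (hcomZ _ _), hx w, hy w, one_mul]
        inv_mem' := fun {x} hx w => by
          have h1 := hcom_l x⁻¹ x w
          rw [inv_mul_cancel, commutatorElement_one_left] at h1
          have h2 := congrArg ζ h1
          rw [hζ1, hζm _ (hcomZ _ _) _ (hcomZ _ _), hx w, one_mul] at h2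
          exact h2.symm }
    have hZ1 : ∀ {x}, x ∈ Z1 ↔ ∀ w, ζ ⁅x, w⁆ = 1 := Iff.rfl
    have hZle : Z0 ≤ Z1 := fun z hz => hZ1.mpr fun w => by
      rw [commutatorElement_eq_one_iff_mul_comm.mpr
        (Subgroup.mem_center_iff.mp (hcen hz) w).symm, hζ1]
    haveI hZ1n : Z1.Normal := ⟨fun x hx g => by
      rw [show g * x * g⁻¹ = ⁅g, x⁆ * x by simp only [commutatorElement_def]; group]
      exact Z1.mul_mem (hZle (hcomZ _ _)) hx⟩
    have hZ1γ : Inv γ Z1 := fun y x hx => hZ1.mpr fun w => by
      rw [← hγinv' y w, ← map_commutatorElement, hZ0.mp (hcomZ _ _)]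
      exact hZ1.mp hx _
    have hZ1α : ∀ a ∈ stab αS Z0 hZ0α ζ, ∀ x ∈ Z1, αS a x ∈ Z1 := fun a ha x hx =>
      hZ1.mpr fun w => by
        rw [← hαinv a w, ← map_commutatorElement, ha _ (hcomZ _ _)]
        exact hZ1.mp hx _
    have hE : ∀ x v, (∀ z ∈ Z0, ρS z v = ζ z • v) → ∀ z ∈ Z0, ρS z (ρR x v) = ζ z • ρR x v := by
      intro x v hv z hz
      have h1 := hρRS x z v
      rw [hZ0.mp hz x, hv z hz, map_smul] at h1
      exact h1.symm
    have hES : ∀ t v, (∀ z ∈ Z0, ρS z v = ζ z • v) → ∀ z ∈ Z0, ρS z (ρS t v) = ζ z • ρS t v := by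
      intro t v hv z hz
      rw [← Module.End.mul_apply, ← map_mul, ← Subgroup.mem_center_iff.mp (hcen hz) t, map_mul,
        Module.End.mul_apply, hv z hz, map_smul]
    let K1 : Subgroup R :=
      { carrier := {x | ∀ u, u⁻¹ * γ x u ∈ Z1}
        one_mem' := fun u => by rw [map_one, MulAut.one_apply, inv_mul_cancel]; exact one_mem _
        mul_mem' := fun {x y} hx hy u => by
          rw [map_mul, MulAut.mul_apply,
            show u⁻¹ * γ x (γ y u) = (u⁻¹ * γ y u) * ((γ y u)⁻¹ * γ x (γ y u)) by group]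
          exact mul_mem (hy u) (hx _)
        inv_mem' := fun {x} hx u => by
          have h1 := inv_mem (hx (γ x⁻¹ u))
          rw [hγinv', mul_inv_rev, inv_inv] at h1
          exact h1 }
    have hK1 : ∀ {x}, x ∈ K1 ↔ ∀ u, u⁻¹ * γ x u ∈ Z1 := Iff.rfl
    have hfinal : (∀ x, x ∈ K1) → False := by
      intro h
      refine hζz0 ?_
      have h1 : (⊤ : Subgroup S) ≤ Z1 := by
        rw [← hgen, Subgroup.closure_le]
        rintro _ ⟨x, t, rfl⟩
        exact h x t
      exact hZ1.mp (h1 (Subgroup.mem_top u0)) w0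
    have hK1inv : ∀ a ∈ stab αS Z0 hZ0α ζ, ∀ x ∈ K1, αR a x ∈ K1 := fun a ha x hx =>
      hK1.mpr fun u => by
        rw [← hαinv a u, ← hγ, ← map_inv, ← map_mul]
        exact hZ1α a ha _ (hx _)
    -- a stabilising operator acting trivially on the section
    have htrivU : ∀ a ∈ stab αS Z0 hZ0α ζ, (∀ u, u⁻¹ * αS a u ∈ Z1) →
        ∀ y, y⁻¹ * αR a y ∈ K1 := by
      intro a ha htr y
      refine hK1.mpr fun u => ?_
      have hA' : ((γ (αR a y) (αS a u) : S) : S ⧸ Z1) = ((γ y u : S) : S ⧸ Z1) := by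
        rw [← hγ]; exact (QuotientGroup.eq.mpr (htr _)).symm
      have hB : ((γ (αR a y) u : S) : S ⧸ Z1) = ((γ (αR a y) (αS a u) : S) : S ⧸ Z1) := by
        refine QuotientGroup.eq.mpr ?_
        rw [← map_inv, ← map_mul]
        exact hZ1γ _ _ (htr u)
      have hC := hZ1γ y⁻¹ _ (QuotientGroup.eq.mp (hB.trans hA').symm)
      rw [map_mul, map_inv, hγinv] at hC
      rwa [map_mul, MulAut.mul_apply]
    by_cases hπ : π ∈ stab αS Z0 hZ0α ζ
    · -- `π` fixes the central character
      have hπpow : ∀ j : ℕ, π ^ j ∈ stab αS Z0 hZ0α ζ := fun j => pow_mem hπ j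
      letI : CommGroup Z0 := { (inferInstance : Group Z0) with
        mul_comm := fun x y => Subtype.ext (Subgroup.mem_center_iff.mp (hcen y.2) x) }
      let σ : Z0 →* Z0 :=
        { toFun := fun x => ⟨αS π x, hZ0α π x x.2⟩
          map_one' := Subtype.ext (map_one (αS π))
          map_mul' := fun x y => Subtype.ext (map_mul (αS π) (x : S) y) }
      let g : ℕ → Z0 := fun j => ⟨αS (π ^ j) z0, hZ0α _ z0 (hcomZ u0 w0)⟩
      set y : Z0 := ∏ j ∈ range p, g j with hy
      have hyfix : αS π (y : S) = y := by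
        have h1 : σ y = y := by
          have h2 : ∀ j, σ (g j) = g (j + 1) := fun j => Subtype.ext (by
            show αS π (αS (π ^ j) z0) = αS (π ^ (j + 1)) z0
            rw [← MulAut.mul_apply, ← map_mul, ← pow_succ'])
          rw [hy, map_prod, Finset.prod_congr rfl fun j _ => h2 j]
          have h3 := Finset.prod_range_succ g p
          rw [Finset.prod_range_succ'] at h3
          have h4 : g p = g 0 := Subtype.ext (by
            show αS (π ^ p) z0 = αS (π ^ 0) z0
            rw [hpp, pow_zero])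
          rw [h4] at h3
          exact mul_right_cancel h3
        exact congrArg Subtype.val h1
      have hζy : ζ (y : S) ≠ 1 := by
        let ζZ : Z0 →* K :=
          { toFun := fun x => ζ x
            map_one' := hζ1
            map_mul' := fun x y => hζm x x.2 y y.2 }
        show ζZ y ≠ 1
        rw [hy, map_prod, Finset.prod_congr rfl fun j _ => show ζZ (g j) = ζ z0 from
          hπpow j z0 (hcomZ u0 w0), Finset.prod_const, Finset.card_range]
        intro h1
        have h2 : ζ z0 ^ Nat.card Z0 = 1 := by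
          show ζZ ⟨z0, hcomZ u0 w0⟩ ^ Nat.card Z0 = 1
          rw [← map_pow, pow_card_eq_one', map_one]
        obtain ⟨e, he⟩ := IsPGroup.iff_card.mp (hS.to_subgroup Z0)
        have h3 := pow_gcd_eq_one.mpr ⟨h1, h2⟩
        rw [he, ((Nat.coprime_primes hp hs.out).mpr hsp.symm).pow_right e, pow_one] at h3
        exact hζz0 h3
      have hzero : ∀ v : V, (∀ z ∈ Z0, ρS z v = ζ z • v) → ∑ j ∈ range p, SA (π ^ j) v = 0 := by
        intro v hv
        set w := ∑ j ∈ range p, SA (π ^ j) v with hw
        have h1 : ρS (y : S) w = w := by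
          rw [hw, ← LinearMap.sum_apply, ← Module.End.mul_apply, hT _ hyfix]
        have h2 : ρS (y : S) w = ζ (y : S) • w := by
          rw [hw, map_sum, Finset.smul_sum]
          refine Finset.sum_congr rfl fun j _ => ?_
          have hyj := hfixpow _ hyfix j
          conv_lhs => rw [← hyj, ← hcSap, hv _ y.2, map_smul]
        rw [h1] at h2
        by_contra hw0
        exact hζy (smul_left_injective K hw0 (h2.symm.trans (one_smul K w).symm))
      rcases section_dichotomy hS hp hsp.symm αS π hpp ρS SA hcS Z0 Z1 hcen hcomZ ζ hζm hζ1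
          (fun x => hZ1) (fun z hz => ⟨hZ0α π z hz, hπ z hz⟩) ⟨v0, hv0, hv0e⟩ hzero hsK hpK with
        htr | ⟨rfl, b, hb1, hbp, -⟩
      · rcases hCR with hI | hII
        · apply hfinal
          intro x
          refine hK1.mpr fun u => ?_
          have hu : ∀ u : S, u ∈ Z1 := fun u => by
            obtain ⟨z, hz, hfix⟩ := fixed_rep hp αS hpp Z1 (hZ1α π hπ) (hdS hp hsp.symm _) (htr u)
            have h1 := mul_mem (hZle (hTcase hI z (hT'.mpr hfix))) (inv_mem hz)
            rwa [mul_inv_rev, inv_inv, mul_inv_cancel_left] at h1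
          exact hu _
        · apply hfinal
          intro x
          obtain ⟨z, hz, hfix⟩ := fixed_rep hp αR hpp K1 (hK1inv π hπ) (hdR hp hrp.symm _)
            (htrivU π hπ htr x)
          have hzK : z ∈ K1 := hK1.mpr fun u => by
            rw [hII z hfix, inv_mul_cancel]; exact one_mem _
          have h1 := mul_mem hzK (inv_mem hz)
          rwa [mul_inv_rev, inv_inv, mul_inv_cancel_left] at h1
      · refine hsq.symm ?_
        have h1 : q ∣ 2 ^ b := by
          have h2 := hpq.hqp
          rwa [← hbp, Nat.add_sub_cancel] at h2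
        exact (Nat.prime_dvd_prime_iff_eq hq Nat.prime_two).mp (hq.dvd_of_dvd_pow h1)
    · -- `π` moves the central character
      rcases hCR with hI | hII
      swap
      · obtain ⟨t1, ht1, ht1n⟩ := hTII hII
        let X : Subgroup S :=
          { carrier := {u | ∀ v, (∀ z ∈ Z0, ρS z v = ζ z • v) → ρS u v = v}
            one_mem' := fun v _ => by rw [map_one, Module.End.one_apply]
            mul_mem' := fun {a b} ha hb v hv => by
              rw [map_mul, Module.End.mul_apply, hb v hv, ha v hv]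
            inv_mem' := fun {a} ha v hv => by
              conv_lhs => rw [← ha v hv]
              rw [← Module.End.mul_apply, ← map_mul, inv_mul_cancel, map_one, Module.End.one_apply] }
        let M0 : Subgroup S := Subgroup.closure {u | ∃ x, ∃ t ∈ T, γ x t = u}
        have hM0 : M0 ≤ X := by
          refine (Subgroup.closure_le X).mpr ?_
          rintro _ ⟨x, t, ht, rfl⟩ v hv
          have h1 := hρRS x t (ρR x⁻¹ v)
          rw [hkill Z0 hZ0α ζ hcen hζm hζ1 hπ t ht _ (hE x⁻¹ v hv), ← Module.End.mul_apply,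
            ← map_mul, mul_inv_cancel, map_one, Module.End.one_apply] at h1
          exact h1.symm
        by_cases hM : M0 = ⊤
        · refine hζz0 ?_
          have h1 : ρS z0 v0 = v0 := hM0 (hM ▸ Subgroup.mem_top z0) v0 hv0e
          rw [hv0e z0 (hcomZ u0 w0)] at h1
          exact smul_left_injective K hv0 (h1.trans (one_smul K v0).symm)
        · refine ht1n (hZ0.mpr fun x => hminS M0 (inv_closure αS _ ?_) (inv_closure γ _ ?_) hM x t1
            (Subgroup.subset_closure ⟨1, t1, ht1, by rw [map_one, MulAut.one_apply]⟩))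
          · rintro a _ ⟨y, t, ht, rfl⟩
            exact Subgroup.subset_closure ⟨αR a y, αS a t, hpq.inv_fix αS a t ht, (hγ a y t).symm⟩
          · rintro z _ ⟨y, t, ht, rfl⟩
            exact Subgroup.subset_closure ⟨z * y, t, ht, by rw [map_mul, MulAut.mul_apply]⟩
      obtain ⟨b, hb, hbst, hbsum⟩ := hstab Z0 hZ0α ζ hζm hζ1 v0 hv0 hv0e hπ
      have hbs : b ∈ stab αS Z0 hZ0α ζ := by rw [hbst]; exact Subgroup.mem_zpowers b
      have hbq := hpq.pow_other hb
      rcases section_dichotomy hS hq hsq.symm αS b hbq ρS SA hcS Z0 Z1 hcen hcomZ ζ hζm hζ1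
          (fun x => hZ1) (fun z hz => ⟨hZ0α b z hz, hbs z hz⟩) ⟨v0, hv0, hv0e⟩ hbsum hsK hqK with
        htr | ⟨rfl, c, hc1, hcq, D, hDmem, hDidx⟩
      · apply hfinal
        intro x
        obtain ⟨z, hz, hfix⟩ := fixed_rep hq αR hbq K1 (hK1inv b hbs) (hdR hq hrq.symm _)
          (htrivU b hbs htr x)
        rw [hfR z (hpq.fix_all αR hb (hI z) hfix), mul_one] at hz
        exact inv_mem_iff.mp hz
      -- the exceptional section
      letI : CommGroup (S ⧸ Z1) :=
        { (inferInstance : Group (S ⧸ Z1)) with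
          mul_comm := fun x y => by
            obtain ⟨x, rfl⟩ := QuotientGroup.mk_surjective x
            obtain ⟨y, rfl⟩ := QuotientGroup.mk_surjective y
            rw [← commutatorElement_eq_one_iff_mul_comm, ← QuotientGroup.mk'_apply,
              ← QuotientGroup.mk'_apply, ← map_commutatorElement, QuotientGroup.mk'_apply,
              QuotientGroup.eq_one_iff]
            exact hZle (hcomZ x y) }
      letI : CommGroup (S ⧸ Z0) :=
        { (inferInstance : Group (S ⧸ Z0)) with
          mul_comm := fun x y => by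
            obtain ⟨x, rfl⟩ := QuotientGroup.mk_surjective x
            obtain ⟨y, rfl⟩ := QuotientGroup.mk_surjective y
            rw [← commutatorElement_eq_one_iff_mul_comm, ← QuotientGroup.mk'_apply,
              ← QuotientGroup.mk'_apply, ← map_commutatorElement, QuotientGroup.mk'_apply,
              QuotientGroup.eq_one_iff]
            exact hcomZ x y }
      -- squares lie in `Z0`
      let sq : S →* S ⧸ Z0 := (powMonoidHom 2).comp (QuotientGroup.mk' Z0)
      let M2 : Subgroup S := (powMonoidHom 2 : S ⧸ Z0 →* S ⧸ Z0).range.comap (QuotientGroup.mk' Z0)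
      have hM2 : M2 ≠ ⊤ := by
        intro e
        have hsur : Function.Surjective (powMonoidHom 2 : S ⧸ Z0 →* S ⧸ Z0) := fun x => by
          obtain ⟨g, rfl⟩ := QuotientGroup.mk_surjective x
          exact (e ▸ Subgroup.mem_top g : g ∈ M2)
        have hinj := Finite.injective_iff_surjective.mpr hsur
        obtain ⟨f, hf⟩ := IsPGroup.iff_card.mp (hS.to_quotient Z0)
        have hf0 : f ≠ 0 := by
          rintro rfl
          refine hne0 ?_
          rw [← Subgroup.index_eq_one, Subgroup.index, hf, pow_zero]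
        obtain ⟨x, hx⟩ := exists_prime_orderOf_dvd_card' (G := S ⧸ Z0) 2 (hf ▸ dvd_pow_self 2 hf0)
        have h1 : x = 1 := hinj (by
          show x ^ 2 = (1 : S ⧸ Z0) ^ 2
          rw [one_pow, ← hx, pow_orderOf_eq_one])
        rw [h1, orderOf_one] at hx
        exact absurd hx (by norm_num)
      have hsquare : ∀ u : S, u ^ 2 ∈ Z0 := by
        intro u
        refine hZ0.mpr fun x => hminS M2 ?_ ?_ hM2 x _ ⟨(u : S ⧸ Z0), rfl⟩
        · rintro a g ⟨y, hy⟩
          refine ⟨Fpf.quot Z0 hZ0α a y, ?_⟩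
          show (Fpf.quot Z0 hZ0α a y) ^ 2 = ((αS a g : S) : S ⧸ Z0)
          rw [← map_pow, show y ^ 2 = (g : S ⧸ Z0) from hy, Fpf.quot_mk]
        · rintro a g ⟨y, hy⟩
          refine ⟨Fpf.quot Z0 hZ0γ a y, ?_⟩
          show (Fpf.quot Z0 hZ0γ a y) ^ 2 = ((γ a g : S) : S ⧸ Z0)
          rw [← map_pow, show y ^ 2 = (g : S ⧸ Z0) from hy, Fpf.quot_mk]
      have hU2 : ∀ u : S ⧸ Z1, u ^ 2 = 1 := fun u => by
        obtain ⟨g, rfl⟩ := QuotientGroup.mk_surjective u
        rw [← QuotientGroup.mk_pow, QuotientGroup.eq_one_iff]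
        exact hZle (hsquare g)
      let γU : R →* MulAut (S ⧸ Z1) := Fpf.quot Z1 hZ1γ
      haveI : IsMulCommutative (R ⧸ γU.ker) := ⟨⟨fun x y => by
        obtain ⟨x, rfl⟩ := QuotientGroup.mk_surjective x
        obtain ⟨y, rfl⟩ := QuotientGroup.mk_surjective y
        rw [← commutatorElement_eq_one_iff_mul_comm, ← QuotientGroup.mk'_apply,
          ← QuotientGroup.mk'_apply, ← map_commutatorElement, QuotientGroup.mk'_apply,
          QuotientGroup.eq_one_iff]
        haveI : Nontrivial R := by
          obtain ⟨x, t, hxt⟩ := hne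
          exact nontrivial_of_ne x 1 fun e => hxt (by rw [e, map_one, MulAut.one_apply])
        haveI : Group.IsNilpotent R := hR.isNilpotent
        have hm := hminR _ (Fpf.inv_char αR (_root_.commutator R))
          (Group.IsSolvable.commutator_lt_top_of_nontrivial R).ne ⁅x, y⁆
          (by rw [_root_.commutator_def]; exact Subgroup.commutator_mem_commutator trivial trivial)
        refine MonoidHom.mem_ker.mpr (MulEquiv.ext fun u => ?_)
        obtain ⟨g, rfl⟩ := QuotientGroup.mk_surjective u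
        show Fpf.quot Z1 hZ1γ ⁅x, y⁆ (g : S ⧸ Z1) = _
        rw [Fpf.quot_mk, hm, MulAut.one_apply]⟩⟩
      letI : CommGroup (R ⧸ γU.ker) :=
        { (inferInstance : Group (R ⧸ γU.ker)) with mul_comm := fun x y => mul_comm' x y }
      have hkerK : ∀ x, x ∈ γU.ker ↔ x ∈ K1 := fun x => by
        constructor
        · intro h
          refine hK1.mpr fun u => ?_
          have h1 : ((γ x u : S) : S ⧸ Z1) = (u : S ⧸ Z1) :=
            DFunLike.congr_fun (MonoidHom.mem_ker.mp h) (u : S ⧸ Z1)
          exact QuotientGroup.eq.mp h1.symm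
        · intro h
          refine MonoidHom.mem_ker.mpr (MulEquiv.ext fun u => ?_)
          obtain ⟨g, rfl⟩ := QuotientGroup.mk_surjective u
          exact (QuotientGroup.eq.mpr (hK1.mp h g)).symm
      have hZ1b : ∀ x ∈ Z1, αS b⁻¹ x ∈ Z1 := hZ1α _ ((stab αS Z0 hZ0α ζ).inv_mem hbs)
      have hw1 : Z1.map (αS b).toMonoidHom = Z1 := by
        refine le_antisymm ?_ fun x hx => ⟨αS b⁻¹ x, hZ1b x hx, hαinv b x⟩
        rintro _ ⟨x, hx, rfl⟩
        exact hZ1α b hbs x hx
      have hw2 : γU.ker.map (αR b).toMonoidHom = γU.ker := by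
        refine le_antisymm ?_ fun x hx => ⟨αR b⁻¹ x,
          (hkerK _).mpr (hK1inv _ ((stab αS Z0 hZ0α ζ).inv_mem hbs) x ((hkerK x).mp hx)),
          hαRinv b x⟩
        rintro _ ⟨x, hx, rfl⟩
        exact (hkerK _).mpr (hK1inv b hbs x ((hkerK x).mp hx))
      set bU : MulAut (S ⧸ Z1) := QuotientGroup.congr Z1 Z1 (αS b) hw1 with hbU
      set bR : MulAut (R ⧸ γU.ker) := QuotientGroup.congr _ _ (αR b) hw2 with hbR
      have hbUpow : ∀ (j : ℕ) (u : S), (bU ^ j) (u : S ⧸ Z1) = ((αS (b ^ j) u : S) : S ⧸ Z1) := by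
        intro j
        induction j with
        | zero => intro u; simp
        | succ j ih =>
          intro u
          rw [pow_succ, pow_succ, MulAut.mul_apply, map_mul, MulAut.mul_apply]
          exact ih _
      have hbRpow : ∀ (j : ℕ) (u : R),
          (bR ^ j) (u : R ⧸ γU.ker) = ((αR (b ^ j) u : R) : R ⧸ γU.ker) := by
        intro j
        induction j with
        | zero => intro u; simp
        | succ j ih =>
          intro u
          rw [pow_succ, pow_succ, MulAut.mul_apply, map_mul, MulAut.mul_apply]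
          exact ih _
      have hcU : Nat.card (S ⧸ Z1) = Nat.card {u : S ⧸ Z1 // bU u = u} ^ q := by
        refine card_eq_fixed_pow hU2 ?_ (QuotientGroup.kerLift γU) ?_ hq bU bR ?_ ?_ ?_ ?_
        · intro h2
          obtain ⟨e, he⟩ := IsPGroup.iff_card.mp (hR.to_quotient γU.ker)
          rw [he] at h2
          exact hrs ((Nat.prime_dvd_prime_iff_eq Nat.prime_two hr.out).mp
            (Nat.prime_two.dvd_of_dvd_pow h2)).symm
        · intro u hu
          obtain ⟨g, rfl⟩ := QuotientGroup.mk_surjective u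
          obtain ⟨z, hz, hfix⟩ := Fpf.exists_fixed_in_coset hR hZ1γ (hdS hr.out hrs _) (g := g)
            fun x => QuotientGroup.eq.mp (hu (x : R ⧸ γU.ker)).symm
          have h1 := mul_mem (hZle (hZ0.mpr hfix)) (inv_mem hz)
          rw [mul_inv_rev, inv_inv, mul_inv_cancel_left] at h1
          exact (QuotientGroup.eq_one_iff g).mpr h1
        · intro x u
          obtain ⟨y, rfl⟩ := QuotientGroup.mk_surjective x
          obtain ⟨g, rfl⟩ := QuotientGroup.mk_surjective u
          show ((αS b (γ y g) : S) : S ⧸ Z1) = ((γ (αR b y) (αS b g) : S) : S ⧸ Z1)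
          rw [hγ]
        · refine MulEquiv.ext fun u => ?_
          obtain ⟨g, rfl⟩ := QuotientGroup.mk_surjective u
          rw [hbUpow, hbq, map_one, MulAut.one_apply, MulAut.one_apply]
        · refine MulEquiv.ext fun u => ?_
          obtain ⟨g, rfl⟩ := QuotientGroup.mk_surjective u
          rw [hbRpow, hbq, map_one, MulAut.one_apply, MulAut.one_apply]
        · intro x hx
          obtain ⟨y, rfl⟩ := QuotientGroup.mk_surjective x
          obtain ⟨z, hz, hfix⟩ := fixed_rep hq αR hbq γU.ker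
            (fun x hx => (hkerK _).mpr (hK1inv b hbs x ((hkerK x).mp hx))) (hdR hq hrq.symm _)
            (QuotientGroup.eq.mp (show ((y : R) : R ⧸ γU.ker) = ((αR b y : R) : R ⧸ γU.ker) from hx.symm))
          rw [hfR z (hpq.fix_all αR hb (hI z) hfix), mul_one] at hz
          exact (QuotientGroup.eq_one_iff y).mpr (inv_mem_iff.mp hz)
      -- the moved part
      let ψ : S ⧸ Z1 →* S ⧸ Z1 :=
        { toFun := fun u => u⁻¹ * bU u
          map_one' := by simp
          map_mul' := fun x y => by rw [map_mul, mul_inv]; exact mul_mul_mul_comm _ _ _ _ }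
      have hDψ : D = ψ.range.comap (QuotientGroup.mk' Z1) := by
        ext u
        rw [hDmem]
        constructor
        · rintro ⟨w, hw⟩
          exact ⟨(w : S ⧸ Z1), QuotientGroup.eq.mpr hw⟩
        · rintro ⟨x, hx⟩
          obtain ⟨w, rfl⟩ := QuotientGroup.mk_surjective x
          exact ⟨w, QuotientGroup.eq.mp hx⟩
      have hrange : Nat.card ψ.range = 2 ^ c * 2 ^ c := by
        rw [← hDidx, hDψ]
        have h1 : (QuotientGroup.mk' Z1).ker = Z1 := QuotientGroup.ker_mk' Z1
        have h2 := Subgroup.relIndex_comap (⊥ : Subgroup (S ⧸ Z1)) (QuotientGroup.mk' Z1)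
          (K := ψ.range.comap (QuotientGroup.mk' Z1))
        rw [MonoidHom.comap_bot, h1,
          Subgroup.map_comap_eq_self_of_surjective (QuotientGroup.mk'_surjective Z1),
          Subgroup.relIndex_bot_left] at h2
        exact h2.symm
      set C := Nat.card {u : S ⧸ Z1 // bU u = u} with hC
      have hCker : C = Nat.card ψ.ker := Nat.card_congr (Equiv.subtypeEquivRight fun u => by
        rw [MonoidHom.mem_ker]
        exact (inv_mul_eq_one.trans eq_comm).symm)
      have hCmul : Nat.card (S ⧸ Z1) = C * (2 ^ c * 2 ^ c) := by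
        rw [hCker, ← hrange, ← Subgroup.index_ker, Subgroup.card_mul_index]
      rw [hcU] at hCmul
      have hCpos : 0 < C := by rw [hCker]; exact Nat.card_pos
      obtain ⟨e, he⟩ : ∃ e, C = 2 ^ e := by
        rw [hCker]; exact IsPGroup.iff_card.mp ((hS.to_quotient Z1).to_subgroup _)
      have hexp : e * q = e + (c + c) := by
        rw [he, ← pow_mul, ← pow_add, ← pow_add] at hCmul
        exact Nat.pow_right_injective le_rfl hCmul
      have hq' : 2 ^ c + 1 = q := hcq
      have hc' : c < 2 ^ c := Nat.lt_two_pow_self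
      have he1 : e = 1 := by
        have h1 : e * 2 ^ c = c + c := by
          rw [← hq', Nat.mul_add, mul_one] at hexp; omega
        rcases e with _ | _ | e
        · omega
        · rfl
        · nlinarith
      -- a fixed class of order two pairs trivially with everything
      rw [hCker, he1, pow_one] at he
      obtain ⟨k, hk, hk'⟩ := (Nat.card_eq_two_iff' (1 : ψ.ker)).mp he
      obtain ⟨g, hg⟩ := QuotientGroup.mk_surjective (k : S ⧸ Z1)
      refine hk (Subtype.ext ?_)
      rw [← hg, OneMemClass.coe_one, QuotientGroup.eq_one_iff]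
      have hgfix : g⁻¹ * αS b g ∈ Z1 := by
        have h1 : ψ (g : S ⧸ Z1) = 1 := hg ▸ k.2
        exact QuotientGroup.eq.mp (inv_mul_eq_one.mp h1)
      have hcom_r : ∀ x y w : S, ⁅x, y * w⁆ = ⁅x, y⁆ * ⁅x, w⁆ := fun x y w => by
        rw [show ⁅x, y * w⁆ = ⁅x, y⁆ * (y * ⁅x, w⁆ * y⁻¹) by simp only [commutatorElement_def]; group,
          Subgroup.mem_center_iff.mp (hcen (hcomZ x w)) y, mul_inv_cancel_right]
      let P : Subgroup S :=
        { carrier := {w | ζ ⁅g, w⁆ = 1}
          one_mem' := by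
            show ζ ⁅g, 1⁆ = 1
            rw [commutatorElement_one_right, hζ1]
          mul_mem' := fun {x y} hx hy => by
            show ζ ⁅g, x * y⁆ = 1
            rw [hcom_r, hζm _ (hcomZ _ _) _ (hcomZ _ _), (hx : ζ ⁅g, x⁆ = 1),
              (hy : ζ ⁅g, y⁆ = 1), one_mul]
          inv_mem' := fun {x} hx => by
            show ζ ⁅g, x⁻¹⁆ = 1
            have h1 := hcom_r g x⁻¹ x
            rw [inv_mul_cancel, commutatorElement_one_right] at h1
            have h2 := congrArg ζ h1
            rw [hζ1, hζm _ (hcomZ _ _) _ (hcomZ _ _), (hx : ζ ⁅g, x⁆ = 1), mul_one] at h2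
            exact h2.symm }
      have hswap : ∀ u w : S, ζ ⁅u, w⁆ * ζ ⁅w, u⁆ = 1 := fun u w => by
        rw [← hζm _ (hcomZ _ _) _ (hcomZ _ _), ← commutatorElement_inv w u, inv_mul_cancel, hζ1]
      have hZ1P : ∀ x ∈ Z1, x ∈ P := fun x hx => by
        have h := hswap g x
        rw [hZ1.mp hx g, mul_one] at h
        exact h
      have hmoved : ∀ w : S, w⁻¹ * αS b w ∈ P := by
        intro w
        have h1 : ζ ⁅g, αS b w⁆ = ζ ⁅αS b g, αS b w⁆ := by
          conv_rhs => rw [show αS b g = g * (g⁻¹ * αS b g) by rw [mul_inv_cancel_left]]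
          rw [hcom_l, hζm _ (hcomZ _ _) _ (hcomZ _ _), hZ1.mp hgfix, one_mul]
        rw [← map_commutatorElement, hbs _ (hcomZ g w)] at h1
        show ζ ⁅g, w⁻¹ * αS b w⁆ = 1
        rw [hcom_r, hζm _ (hcomZ _ _) _ (hcomZ _ _), h1, ← hζm _ (hcomZ _ _) _ (hcomZ _ _),
          ← hcom_r, inv_mul_cancel, commutatorElement_one_right, hζ1]
      have hgP : g ∈ P := by
        show ζ ⁅g, g⁆ = 1
        rw [commutatorElement_self, hζ1]
      refine hZ1.mpr fun w => ?_
      -- decompose along the kernel and the range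
      have hdisj : ∀ x ∈ ψ.range, ψ x = 1 → x = 1 := by
        rintro x ⟨y, rfl⟩ hx
        have hy : ∀ j : ℕ, (bU ^ j) y = y * ψ y ^ j := by
          intro j
          induction j with
          | zero => simp
          | succ j ih =>
            rw [pow_succ', MulAut.mul_apply, ih, map_mul, map_pow,
              (inv_mul_eq_one.mp hx).symm, show bU y = y * ψ y from (mul_inv_cancel_left y _).symm,
              mul_assoc, ← pow_succ']
        have h1 := hy q
        obtain ⟨y', rfl⟩ := QuotientGroup.mk_surjective y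
        rw [hbUpow, hbq, map_one, MulAut.one_apply, left_eq_mul] at h1
        rw [← orderOf_eq_one_iff]
        refine Nat.eq_one_of_dvd_coprimes ?_ (orderOf_dvd_of_pow_eq_one h1)
          (orderOf_dvd_of_pow_eq_one (hU2 _))
        exact (Nat.coprime_primes hq Nat.prime_two).mpr hsq.symm
      have hψinj : Function.Injective fun x : ψ.range => (⟨ψ x, ⟨x, rfl⟩⟩ : ψ.range) := by
        rintro ⟨x, hx⟩ ⟨y, hy⟩ he'
        have he'' : ψ x = ψ y := congrArg Subtype.val he'
        refine Subtype.ext (mul_inv_eq_one.mp (hdisj _ (mul_mem hx (inv_mem hy)) ?_))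
        rw [map_mul, map_inv, he'', mul_inv_cancel]
      obtain ⟨⟨y, hy⟩, hyw⟩ := Finite.injective_iff_surjective.mp hψinj
        ⟨ψ (w : S ⧸ Z1), ⟨_, rfl⟩⟩
      have hyw' : ψ y = ψ (w : S ⧸ Z1) := congrArg Subtype.val hyw
      obtain ⟨d, hd'⟩ := hy
      obtain ⟨d, rfl⟩ := QuotientGroup.mk_surjective d
      subst hd'
      set dd := d⁻¹ * αS b d with hdd
      have hdk : ψ ((dd⁻¹ * w : S) : S ⧸ Z1) = 1 := by
        have hd1 : ((dd : S) : S ⧸ Z1) = ψ (d : S ⧸ Z1) := rfl
        rw [QuotientGroup.mk_mul, QuotientGroup.mk_inv, map_mul, map_inv, hd1, hyw', inv_mul_cancel]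
      have hk2 : dd⁻¹ * w ∈ P := by
        rcases eq_or_ne (⟨((dd⁻¹ * w : S) : S ⧸ Z1), hdk⟩ : ψ.ker) 1 with h1 | h1
        · exact hZ1P _ ((QuotientGroup.eq_one_iff _).mp (congrArg Subtype.val h1))
        · have h2 := congrArg Subtype.val (hk' _ h1)
          rw [← hg] at h2
          have h3 := mul_mem hgP (hZ1P _ (QuotientGroup.eq.mp h2.symm))
          rwa [mul_inv_cancel_left] at h3
      have h4 := mul_mem (hmoved d) hk2
      rwa [← hdd, mul_inv_cancel_left] at h4

end Core

end Cfsg.Agent.PQHeight
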