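import Cfsg.Agent.Lib.PQHeight.Core
import Cfsg.Agent.Lib.Fpf.Four
import Cfsg.Agent.Lib.Basics.CoprimeAction
import Cfsg.Agent.Lib.Basics.Schmidt

/-!
A solvable group with a fixed-point-free coprime group of operators that is nonabelian of order
`pq` is nilpotent modulo its Fitting subgroup.
-/

set_option autoImplicit false
set_option linter.unusedSectionVars false
set_option linter.style.haveILetI false

namespace Cfsg.Agent.PQHeight

open Module Finset Cfsg
open scoped TensorProduct IsMulCommutative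
open Cfsg.Agent.Fpf (Inv Free fix)

universe u v w x

theorem pq_data {A : Type u} [Group A] [Finite A] {p q : ℕ} (hp : p.Prime) (hq : q.Prime)
    (hlt : q < p) (hA : Nat.card A = p * q) (hna : ¬ IsMulCommutative A) :
    ∃ π : A, PQ A π p q := by
  haveI := Fact.mk hp
  haveI := Fact.mk hq
  obtain ⟨π, hπ⟩ := exists_prime_orderOf_dvd_card' (G := A) p (hA ▸ dvd_mul_right p q)
  set P := Subgroup.zpowers π with hP
  have hPc : Nat.card P = p := by rw [hP, Nat.card_zpowers, hπ]
  have hidx : P.index = q := Nat.eq_of_mul_eq_mul_left hp.pos (by rw [← hA, ← P.card_mul_index, hPc])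
  have hmin : (Nat.card A).minFac = q := by
    rw [hA]
    refine le_antisymm (Nat.minFac_le_of_dvd hq.two_le (dvd_mul_left q p)) ?_
    have h1 : 1 < p * q := Nat.one_lt_mul_iff.mpr ⟨hp.pos, hq.pos, Or.inl hp.one_lt⟩
    have hm := Nat.minFac_prime h1.ne'
    rcases (Nat.Prime.dvd_mul hm).mp (Nat.minFac_dvd (p * q)) with h | h
    · rw [(Nat.prime_dvd_prime_iff_eq hm hp).mp h]; exact hlt.le
    · rw [(Nat.prime_dvd_prime_iff_eq hm hq).mp h]
  haveI hPn : P.Normal := Subgroup.normal_of_index_eq_minFac_card (by rw [hidx, hmin])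
  have hother : ∀ a : A, a ∉ P → orderOf a = q := by
    intro a ha
    have h1 : orderOf a ∣ p * q := hA ▸ orderOf_dvd_natCard a
    have haP : a ^ q ∈ P := by
      rw [← QuotientGroup.eq_one_iff, QuotientGroup.mk_pow]
      refine orderOf_dvd_iff_pow_eq_one.mp ?_
      rw [← hidx, Subgroup.index]
      exact orderOf_dvd_natCard _
    have h2 : orderOf (a ^ q) ∣ p := by
      rw [← hPc, ← Subgroup.orderOf_mk (a ^ q) haP]
      exact orderOf_dvd_natCard _
    rcases hp.eq_one_or_self_of_dvd _ h2 with h3 | h3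
    · have h4 : orderOf a ∣ q := orderOf_dvd_of_pow_eq_one (orderOf_eq_one_iff.mp h3)
      rcases hq.eq_one_or_self_of_dvd _ h4 with h5 | h5
      · exact absurd (one_mem P) (by rwa [orderOf_eq_one_iff.mp h5] at ha)
      · exact h5
    · exfalso
      rw [orderOf_pow' a hq.ne_zero] at h3
      by_cases hqa : q ∣ orderOf a
      · rw [Nat.gcd_eq_right hqa] at h3
        have h6 : orderOf a = Nat.card A := by
          rw [hA, ← Nat.div_mul_cancel hqa, h3]
        exact hna ⟨⟨fun x y => (isCyclic_of_orderOf_eq_card a h6).commGroup.mul_comm x y⟩⟩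
      · refine ha ?_
        rw [Nat.coprime_iff_gcd_eq_one.mp ((hq.coprime_iff_not_dvd.mpr hqa).symm), Nat.div_one] at h3
        obtain ⟨j, hj⟩ := exists_pow_eq_self_of_coprime (x := a) (n := q)
          (by rw [h3]; exact (Nat.coprime_primes hq hp).mpr hlt.ne)
        rw [← hj]
        exact pow_mem haP j
  refine ⟨π, hp, hq, hπ, fun a => hPn.conj_mem π (Subgroup.mem_zpowers π) a, hother, hA, ?_, ?_⟩
  · have := hq.two_le; omega
  · obtain ⟨b, hb⟩ : ∃ b, b ∉ P := by
      by_contra hcon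
      push Not at hcon
      have h1 := orderOf_eq_card_of_forall_mem_zpowers hcon
      rw [hπ, hA] at h1
      exact absurd h1 (Nat.ne_of_lt (lt_mul_of_one_lt_right hp.pos hq.one_lt))
    set f : MulAut P := MulAut.conjNormal b with hf
    have hfq : f ^ q = 1 := by
      rw [hf, ← map_pow, ← hother b hb, pow_orderOf_eq_one, map_one]
    have hf1 : f ≠ 1 := by
      intro e
      apply hna
      have hcomm : b * π = π * b := by
        have h1 := congrArg Subtype.val (DFunLike.congr_fun e (⟨π, Subgroup.mem_zpowers π⟩ : P))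
        rw [hf, MulAut.conjNormal_apply] at h1
        exact mul_inv_eq_iff_eq_mul.mp h1
      refine ⟨⟨fun x y => ?_⟩⟩
      have hsup : (⊤ : Subgroup A) ≤ Subgroup.closure {π, b} := by
        have h2 : Subgroup.zpowers π ⊔ Subgroup.zpowers b = ⊤ := by
          apply Subgroup.eq_top_of_card_eq
          refine Nat.dvd_antisymm (Subgroup.card_subgroup_dvd_card _) ?_
          rw [hA]
          refine ((Nat.coprime_primes hp hq).mpr hlt.ne').mul_dvd_of_dvd_of_dvd ?_ ?_
          · rw [← hπ, ← Nat.card_zpowers]; exact Subgroup.card_dvd_of_le le_sup_left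
          · rw [← hother b hb, ← Nat.card_zpowers]; exact Subgroup.card_dvd_of_le le_sup_right
        rw [← h2]
        exact sup_le (Subgroup.zpowers_le.mpr (Subgroup.subset_closure (by simp)))
          (Subgroup.zpowers_le.mpr (Subgroup.subset_closure (by simp)))
      haveI := Subgroup.isMulCommutative_closure (k := ({π, b} : Set A)) (by
        rintro u (rfl | rfl) w (rfl | rfl) <;> first | rfl | exact hcomm | exact hcomm.symm)
      exact congrArg Subtype.val (mul_comm' (⟨x, hsup trivial⟩ : Subgroup.closure {π, b})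
        ⟨y, hsup trivial⟩)
    have hfo : orderOf f = q := orderOf_eq_prime hfq hf1
    have h1 : Nat.card (MulAut P) = p - 1 := by
      rw [IsCyclic.card_mulAut, hPc, Nat.totient_prime hp]
    rw [← h1, ← hfo]
    exact orderOf_dvd_natCard f

/-- The module situation: a nontrivial action of `R` on `S` is impossible. -/
theorem absurd_module {A : Type u} [Group A] [Finite A] {π : A} {p q r s : ℕ}
    (hpq : PQ A π p q) [hr : Fact r.Prime] [hs : Fact s.Prime] {ℓ : ℕ} [hℓ : Fact ℓ.Prime]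
    (hℓp : ℓ ≠ p) (hℓq : ℓ ≠ q) (hℓs : ℓ ≠ s) (hrs : r ≠ s)
    (hrp : r ≠ p) (hrq : r ≠ q) (hsp : s ≠ p) (hsq : s ≠ q)
    {S : Type v} {R : Type w} [Group S] [Finite S] [Group R] [Finite R]
    (hS : IsPGroup s S) (hR : IsPGroup r R)
    (αS : A →* MulAut S) (αR : A →* MulAut R) (γ : R →* MulAut S)
    (hγ : ∀ a x t, αS a (γ x t) = γ (αR a x) (αS a t)) (hne : ∃ x t, γ x t ≠ t)
    (hminS : ∀ M : Subgroup S, Inv αS M → Inv γ M → M ≠ ⊤ → ∀ x, ∀ t ∈ M, γ x t = t)
    (hminR : ∀ R' : Subgroup R, Inv αR R' → R' ≠ ⊤ → ∀ x ∈ R', ∀ t, γ x t = t)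
    (hfS : Free αS) (hfR : Free αR)
    {W : Type x} [AddCommGroup W] [Finite W] (hexp : ∀ x : W, ℓ • x = 0)
    (ρS : S →* AddMonoid.End W) (hρ : Function.Injective ρS) (ρR : R →* AddMonoid.End W)
    (SA : A →* AddMonoid.End W)
    (hγρ : ∀ x t v, ρR x (ρS t v) = ρS (γ x t) (ρR x v))
    (hcS : Fpf.Compat αS ρS SA) (hW : ∀ v : W, (∀ a, SA a v = v) → v = 0)
    (hT : ∀ t, αS π t = t → ∀ v : W, SA π v = v → ρS t v = v) : False := by
  haveI : Module (ZMod ℓ) W := AddCommGroup.zmodModule hexp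
  haveI : Module.Finite (ZMod ℓ) W := Module.Finite.of_finite
  let K := AlgebraicClosure (ZMod ℓ)
  haveI : CharP K ℓ := charP_of_injective_algebraMap (algebraMap (ZMod ℓ) K).injective ℓ
  let conv : AddMonoid.End W →* Module.End (ZMod ℓ) W :=
    { toFun := fun f => AddMonoidHom.toZModLinearMap ℓ f
      map_one' := LinearMap.ext fun _ => rfl
      map_mul' := fun _ _ => LinearMap.ext fun _ => rfl }
  let bcA : Module.End (ZMod ℓ) W →ₐ[ZMod ℓ] Module.End K (K ⊗[ZMod ℓ] W) :=
    Module.End.baseChangeHom (ZMod ℓ) K W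
  have hbc : Function.Injective bcA := by
    intro f g e
    refine LinearMap.ext fun w => ?_
    have h1 := LinearMap.congr_fun e ((1 : K) ⊗ₜ[ZMod ℓ] w)
    have h2 : (1 : K) ⊗ₜ[ZMod ℓ] f w = (1 : K) ⊗ₜ[ZMod ℓ] g w := h1
    exact Module.FaithfullyFlat.tensorProduct_mk_injective (A := ZMod ℓ) (B := K) W h2
  let bc := bcA.toMonoidHom
  have hK : ∀ {m : ℕ}, m.Prime → m ≠ ℓ → (m : K) ≠ 0 := fun hm hne => by
    rw [Ne, CharP.cast_eq_zero_iff K ℓ]
    exact fun h => hne ((Nat.prime_dvd_prime_iff_eq hℓ.out hm).mp h).symm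
  refine absurd_core hpq hrs hrp hrq hsp hsq hS hR αS αR γ hγ hne hminS hminR hfS hfR
    (bc.comp (conv.comp ρS)) (fun x y e => hρ (AddMonoidHom.ext fun v =>
      LinearMap.congr_fun (hbc e) v)) (bc.comp (conv.comp ρR)) ?_ (bc.comp (conv.comp SA)) ?_ ?_ ?_
    (hK hs.out (Ne.symm hℓs)) (hK hpq.hp (Ne.symm hℓp)) (hK hpq.hq (Ne.symm hℓq))
  · intro x t
    show bcA (conv (ρR x)) * bcA (conv (ρS t)) = bcA (conv (ρS (γ x t))) * bcA (conv (ρR x))
    rw [← map_mul bcA, ← map_mul bcA]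
    exact congrArg bcA (LinearMap.ext fun v => hγρ x t v)
  · intro a t
    show bcA (conv (SA a)) * bcA (conv (ρS t)) = bcA (conv (ρS (αS a t))) * bcA (conv (SA a))
    rw [← map_mul bcA, ← map_mul bcA]
    exact congrArg bcA (LinearMap.ext fun v => hcS a t v)
  · intro _
    show ∑ a : A, bcA (conv (SA a)) = 0
    rw [← map_sum, show ∑ a : A, conv (SA a) = 0 from LinearMap.ext fun v => ?_, map_zero]
    rw [LinearMap.sum_apply]
    refine hW _ fun b => ?_
    show SA b (∑ a : A, SA a v) = ∑ a : A, SA a v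
    rw [map_sum]
    exact Fintype.sum_equiv (Equiv.mulLeft b) _ _ fun a => (Fpf.mul_apply' SA b a v).symm
  · intro t ht
    show bcA (conv (ρS t)) * ∑ j ∈ range p, bcA (conv (SA (π ^ j))) =
      ∑ j ∈ range p, bcA (conv (SA (π ^ j)))
    rw [← map_sum, ← map_mul bcA]
    refine congrArg bcA (LinearMap.ext fun v => ?_)
    rw [Module.End.mul_apply, LinearMap.sum_apply]
    exact hT t ht (Fpf.aSum SA π p v) (Fpf.S_aSum hpq.pow_pi v)

/-- Commuting of fixed elements of coprime order. -/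
theorem commute_of_fixed {A : Type u} [Group A] [Finite A] {π : A} {p q : ℕ} (hpq : PQ A π p q)
    {G : Type v} [Group G] [Finite G] [Group.IsSolvable G] (φ : A →* MulAut G) (hf : Free φ) {x y : G}
    (hx : φ π x = x) (hy : φ π y = y) (hxy : (orderOf x).Coprime (orderOf y)) : Commute x y := by
  obtain ⟨b, hb⟩ := hpq.exists_other
  haveI := Fact.mk hpq.hq
  have hi := hpq.inv_fix φ
  have hnil : Group.IsNilpotent (fix φ π) := by
    refine Fpf.isNilpotent_of_prime (A := Subgroup.zpowers b) (p := q)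
      (by rw [Nat.card_zpowers, hpq.other b hb])
      ((Fpf.restrict (fix φ π) hi).comp (Subgroup.zpowers b).subtype) ?_
    intro z hz
    exact Subtype.ext (hf _ (hpq.fix_all φ hb z.2
      (congrArg Subtype.val (hz ⟨b, Subgroup.mem_zpowers b⟩))))
  exact Basics.commute_of_coprime_le hnil hx hy hxy

/-- An invariant Sylow subgroup. -/
theorem exists_invariant_sylow {A : Type u} [Group A] [Finite A] {G : Type v} [Group G] [Finite G]
    [Group.IsSolvable G] (ψ : A →* MulAut G) (hcop : (Nat.card A).Coprime (Nat.card G)) (r : ℕ)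
    [Fact r.Prime] : ∃ R : Sylow r G, Inv ψ (R : Subgroup G) := by
  haveI : Finite (G ⋊[ψ] A) := Finite.of_equiv _ SemidirectProduct.equivProd.symm
  set iG : G →* G ⋊[ψ] A := SemidirectProduct.inl
  set iA : A →* G ⋊[ψ] A := SemidirectProduct.inr
  set K := iG.range
  set A' := iA.range
  have hKn : K.Normal := by
    rw [show K = SemidirectProduct.rightHom.ker from SemidirectProduct.range_inl_eq_ker_rightHom]
    infer_instance
  have hK : Nat.card K = Nat.card G :=
    (Nat.card_congr (MonoidHom.ofInjective SemidirectProduct.inl_injective).toEquiv).symm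
  have hA' : Nat.card A' = Nat.card A :=
    (Nat.card_congr (MonoidHom.ofInjective SemidirectProduct.inr_injective).toEquiv).symm
  haveI : Group.IsSolvable K :=
    solvable_of_surjective (f := iG.rangeRestrict) iG.rangeRestrict_surjective
  obtain ⟨S, hS, hSA⟩ := Basics.exists_invariant_isSylowIn A' K
    (fun a _ => by rw [Subgroup.normalizer_eq_top_iff.mpr hKn]; trivial)
    (by rw [hK, hA']; exact hcop) (Or.inr inferInstance) r
  have hSc : Nat.card (S.comap iG) = r ^ (Nat.card G).factorization r := by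
    have h1 : (S.comap iG).map iG = S := by
      rw [Subgroup.map_comap_eq, inf_eq_right.mpr hS.1]
    rw [← Subgroup.card_map_of_injective (f := iG) SemidirectProduct.inl_injective, h1, hS.2, hK]
  refine ⟨Sylow.ofCard (S.comap iG) hSc, fun a g hg => ?_⟩
  rw [Sylow.coe_ofCard] at hg ⊢
  show iG (ψ a g) ∈ S
  rw [show iG (ψ a g) = iA a * iG g * (iA a)⁻¹ by rw [← map_inv]; exact SemidirectProduct.inl_aut a g]
  exact ((Subgroup.mem_normalizer_iff.mp (hSA ⟨a, rfl⟩)) (iG g)).mp hg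

/-- Quotient by the Fitting subgroup is nilpotent. -/
theorem quotient_fitting_nilpotent {A : Type u} [Group A] [Finite A] {π : A} {p q : ℕ}
    (hpq : PQ A π p q) {G : Type v} [Group G] [Finite G] [Group.IsSolvable G]
    (hcop : (Nat.card G).Coprime (p * q)) (φ : A →* MulAut G) (hf : Free φ) :
    ∃ k : ℕ, (⊤ : Subgroup G).lowerCentralSeries k ≤ fittingSubgroup G := by
  induction hc : Nat.card G using Nat.strong_induction_on generalizing G with
  | _ N ih =>
  subst hc
  rcases subsingleton_or_nontrivial G with hG | hG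
  · exact ⟨0, fun g _ => by rw [Subsingleton.elim g 1]; exact one_mem _⟩
  haveI := Fact.mk hpq.hp
  haveI := Fact.mk hpq.hq
  obtain ⟨V, ℓ, hVn, hi, hne, hℓ, hab, hexp, hmin⟩ := Fpf.exists_minimal φ
  haveI := Fact.mk hℓ
  set C := Subgroup.centralizer (V : Set G) with hC
  have hVC : V ≤ C := fun x hx => by
    rw [hC, Subgroup.mem_centralizer_iff]
    exact fun y hy => congrArg Subtype.val (mul_comm' (⟨y, hy⟩ : V) ⟨x, hx⟩)
  have hcopA : (Nat.card A).Coprime (Nat.card G) := by rw [hpq.card]; exact hcop.symm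
  have hfree : ∀ (H : Subgroup G) [H.Normal] (hH : Inv φ H), Free (Fpf.quot H hH) := by
    intro H _ hH x hx
    obtain ⟨g, rfl⟩ := QuotientGroup.mk_surjective x
    obtain ⟨b, hb⟩ := hpq.exists_other
    have hnd : ∀ {m : ℕ}, m.Prime → m ∣ p * q → ¬ m ∣ Nat.card H := fun hm hd hd' =>
      hm.ne_one (Nat.eq_one_of_dvd_coprimes hcop (hd'.trans H.card_subgroup_dvd_card) hd)
    have h1 := hx π
    rw [Fpf.quot_mk] at h1
    obtain ⟨z, hz, hzfix⟩ := fixed_rep hpq.hp φ hpq.pow_pi H (hH π) (hnd hpq.hp (dvd_mul_right p q))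
      (QuotientGroup.eq.mp h1.symm)
    let F0 := fix φ π
    have hF0 := hpq.inv_fix φ
    have hzg : (g : G ⧸ H) = (z : G ⧸ H) := QuotientGroup.eq.mpr hz
    have h2 := hx b
    rw [hzg, Fpf.quot_mk] at h2
    obtain ⟨w, hw, hwfix⟩ := fixed_rep hpq.hq (Fpf.restrict F0 hF0) (hpq.pow_other hb)
      (H.subgroupOf F0) (fun y hy => hH b y hy)
      (fun hd => hnd hpq.hq (dvd_mul_left q p) (hd.trans (by
        rw [← Subgroup.card_map_of_injective F0.subtype_injective, Subgroup.subgroupOf_map_subtype]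
        exact Subgroup.card_dvd_of_le inf_le_left)))
      (g := ⟨z, hzfix⟩) (show z⁻¹ * φ b z ∈ H from QuotientGroup.eq.mp h2.symm)
    have hw1 : (w : G) = 1 := hf _ (hpq.fix_all φ hb w.2 (congrArg Subtype.val hwfix))
    have hw' : z⁻¹ * (w : G) ∈ H := hw
    rw [hw1, mul_one] at hw'
    rw [hzg]
    exact (QuotientGroup.eq_one_iff z).mpr (inv_mem_iff.mp hw')
  have hlt : ∀ (H : Subgroup G) [H.Normal], H ≠ ⊥ → Nat.card (G ⧸ H) < Nat.card G := by
    intro H _ hH
    rw [H.card_eq_card_quotient_mul_card_subgroup]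
    exact lt_mul_of_one_lt_right Nat.card_pos ((Subgroup.one_lt_card_iff_ne_bot H).mpr hH)
  obtain ⟨k1, hk1⟩ := ih _ (hlt V hne) (hcop.coprime_dvd_left V.card_quotient_dvd_card)
    (Fpf.quot V hi) (hfree V hi) rfl
  set ψ := Fpf.quot C hi.centralizer with hψ
  have hψf : Free ψ := hfree C hi.centralizer
  obtain ⟨k2, hk2⟩ := ih _ (hlt C fun e => hne (le_bot_iff.mp (e ▸ hVC)))
    (hcop.coprime_dvd_left C.card_quotient_dvd_card) ψ hψf rfl
  -- it suffices that the image of `G` in the automorphisms of `V` is nilpotent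
  suffices hnil : Group.IsNilpotent (G ⧸ C) by
    obtain ⟨k3, hk3⟩ := nilpotent_iff_lowerCentralSeries.mp hnil
    refine ⟨max k1 k3, fun g hg => Fpf.mem_fitting_of_quotient V ?_ ?_⟩
    · have h1 := Subgroup.mem_map_of_mem (QuotientGroup.mk' V)
        ((⊤ : Subgroup G).lowerCentralSeries_antitone (le_max_left k1 k3) hg)
      rw [Subgroup.map_lowerCentralSeries,
        Subgroup.map_top_of_surjective _ (QuotientGroup.mk'_surjective V)] at h1
      exact hk1 h1
    · have h1 := Subgroup.mem_map_of_mem (QuotientGroup.mk' C)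
        ((⊤ : Subgroup G).lowerCentralSeries_antitone (le_max_right k1 k3) hg)
      rw [Subgroup.map_lowerCentralSeries,
        Subgroup.map_top_of_surjective _ (QuotientGroup.mk'_surjective C), hk3,
        Subgroup.mem_bot] at h1
      exact (QuotientGroup.eq_one_iff g).mp h1
  have hcopC : (Nat.card A).Coprime (Nat.card (G ⧸ C)) :=
    hcopA.coprime_dvd_right C.card_quotient_dvd_card
  set F := fittingSubgroup (G ⧸ C) with hF
  by_contra hnot
  -- a pair of primes with nontrivial action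
  obtain ⟨r, hr, s, hs, hrs, R0, hR0i, hR0p, x0, hx0, t0, ht0, hx0t⟩ :
      ∃ r : ℕ, r.Prime ∧ ∃ s : ℕ, s.Prime ∧ r ≠ s ∧ ∃ R0 : Subgroup (G ⧸ C), Inv ψ R0 ∧
        IsPGroup r R0 ∧ ∃ x ∈ R0, ∃ t ∈ pCore s (G ⧸ C), x * t * x⁻¹ ≠ t := by
    by_contra hcon
    refine hnot ?_
    refine ((Group.isNilpotent_of_finite_tfae (G := G ⧸ C)).out 0 3).mpr fun r hr P => ?_
    haveI := hr
    obtain ⟨R, hRi⟩ := exists_invariant_sylow ψ hcopC r
    have hcomm : ∀ s : ℕ, s.Prime → r ≠ s → ∀ x ∈ (R : Subgroup (G ⧸ C)), ∀ t ∈ pCore s (G ⧸ C),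
        x * t * x⁻¹ = t := by
      intro s hs hrs x hx t ht
      by_contra h
      exact hcon ⟨r, hr.out, s, hs, hrs, (R : Subgroup (G ⧸ C)), hRi, R.isPGroup', x, hx, t, ht, h⟩
    have hFR : F ≤ Subgroup.normalizer ((R : Subgroup (G ⧸ C)) : Set (G ⧸ C)) := by
      rw [hF, Basics.fittingSubgroup_eq_iSup_pCore]
      refine iSup_le fun s => ?_
      haveI : Fact (s : ℕ).Prime := ⟨s.2⟩
      by_cases hrs : r = (s : ℕ)
      · subst hrs
        exact (Basics.pCore_le_sylow _ R).trans Subgroup.le_normalizer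
      · intro t ht
        refine Subgroup.centralizer_le_normalizer _ ?_
        rw [Subgroup.mem_centralizer_iff]
        intro x hx
        exact mul_inv_eq_iff_eq_mul.mp (hcomm s s.2 hrs x hx t ht)
    obtain ⟨k2', hk2'⟩ : ∃ k, (⊤ : Subgroup (G ⧸ C)).lowerCentralSeries k ≤ F := ⟨k2, hk2⟩
    haveI hQnil : Group.IsNilpotent ((G ⧸ C) ⧸ F) := by
      refine nilpotent_iff_lowerCentralSeries.mpr ⟨k2', eq_bot_iff.mpr ?_⟩
      rw [← Subgroup.map_top_of_surjective _ (QuotientGroup.mk'_surjective F),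
        ← Subgroup.map_lowerCentralSeries, Subgroup.map_le_iff_le_comap, MonoidHom.comap_bot,
        QuotientGroup.ker_mk']
      exact hk2'
    set Rbar := R.mapSurjective (QuotientGroup.mk'_surjective F) with hRbar
    have hRbarn : (Rbar : Subgroup ((G ⧸ C) ⧸ F)).Normal := by
      have hiff : Group.IsNilpotent ((G ⧸ C) ⧸ F) ↔ ∀ (q : ℕ) (_ : Fact q.Prime)
          (P : Sylow q ((G ⧸ C) ⧸ F)), (P : Subgroup ((G ⧸ C) ⧸ F)).Normal :=
        (Group.isNilpotent_of_finite_tfae (G := (G ⧸ C) ⧸ F)).out 0 3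
      exact hiff.mp hQnil r inferInstance Rbar
    set N := (Rbar : Subgroup ((G ⧸ C) ⧸ F)).comap (QuotientGroup.mk' F) with hN
    haveI hNn : N.Normal := hRbarn.comap _
    have hNle : N ≤ Subgroup.normalizer ((R : Subgroup (G ⧸ C)) : Set (G ⧸ C)) := by
      rw [hN, hRbar, Sylow.coe_mapSurjective, Subgroup.comap_map_eq, QuotientGroup.ker_mk']
      exact sup_le Subgroup.le_normalizer hFR
    have hRN : (R : Subgroup (G ⧸ C)) ≤ N := by
      rw [hN, hRbar, Sylow.coe_mapSurjective, Subgroup.comap_map_eq]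
      exact le_sup_left
    haveI hRn : (R : Subgroup (G ⧸ C)).Normal := by
      refine ⟨fun x hx g => ?_⟩
      have hR' : ((g • R : Sylow r (G ⧸ C)) : Subgroup (G ⧸ C)) ≤
          Subgroup.normalizer ((R : Subgroup (G ⧸ C)) : Set (G ⧸ C)) := by
        intro y hy
        rw [Sylow.coe_subgroup_smul] at hy
        obtain ⟨z, hz, rfl⟩ := hy
        exact hNle (hNn.conj_mem z (hRN hz) g)
      have h1 := ((R.isPGroup').to_sup_of_normal_left' (g • R).isPGroup' hR')
      have h2 := R.3 h1 le_sup_left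
      refine h2.le (Subgroup.mem_sup_right ?_)
      rw [Sylow.coe_subgroup_smul]
      exact ⟨x, hx, rfl⟩
    haveI : Subsingleton (Sylow r (G ⧸ C)) := (Sylow.unique_of_normal R hRn).instSubsingleton
    rw [Subsingleton.elim P R]
    exact hRn
  haveI := Fact.mk hr
  haveI := Fact.mk hs
  have hnd : ∀ {m : ℕ}, m.Prime → m ∣ Nat.card (G ⧸ C) → m ≠ p ∧ m ≠ q := by
    intro m hm hd
    have h1 : (Nat.card (G ⧸ C)).Coprime (p * q) := hcop.coprime_dvd_left C.card_quotient_dvd_card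
    exact ⟨fun e => hm.ne_one (Nat.eq_one_of_dvd_coprimes h1 hd (e ▸ dvd_mul_right p q)),
      fun e => hm.ne_one (Nat.eq_one_of_dvd_coprimes h1 hd (e ▸ dvd_mul_left q p))⟩
  -- minimal counterexamples
  obtain ⟨R, ⟨hRi, hRR0, hRne⟩, hRmin⟩ := WellFounded.has_min
    (wellFounded_lt (α := Subgroup (G ⧸ C)))
    {R | Inv ψ R ∧ R ≤ R0 ∧ ∃ x ∈ R, ∃ t ∈ pCore s (G ⧸ C), x * t * x⁻¹ ≠ t}
    ⟨R0, hR0i, le_rfl, x0, hx0, t0, ht0, hx0t⟩
  have hpn : (pCore s (G ⧸ C)).Normal := inferInstance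
  obtain ⟨S, ⟨hSi, hSle, hSR, hSne⟩, hSmin⟩ := WellFounded.has_min
    (wellFounded_lt (α := Subgroup (G ⧸ C)))
    {S | Inv ψ S ∧ S ≤ pCore s (G ⧸ C) ∧ (∀ x ∈ R, ∀ t ∈ S, x * t * x⁻¹ ∈ S) ∧
      ∃ x ∈ R, ∃ t ∈ S, x * t * x⁻¹ ≠ t}
    ⟨pCore s (G ⧸ C), Fpf.inv_char ψ _, le_rfl, fun x _ t ht => hpn.conj_mem t ht x, hRne⟩
  obtain ⟨x1, hx1, t1, ht1, hx1t⟩ := hSne
  have hRp : IsPGroup r R := hR0p.to_le hRR0
  have hSp : IsPGroup s S := (Basics.pCore_isPGroup s).to_le hSle
  have hrd : r ∣ Nat.card (G ⧸ C) := by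
    rcases hRp.card_eq_or_dvd with h | h
    · refine absurd ?_ hx1t
      have : x1 ∈ (⊥ : Subgroup (G ⧸ C)) := Subgroup.card_eq_one.mp h ▸ hx1
      rw [Subgroup.mem_bot.mp this]; group
    · exact h.trans R.card_subgroup_dvd_card
  have hsdF : s ∣ Nat.card F := by
    rcases hSp.card_eq_or_dvd with h | h
    · refine absurd ?_ hx1t
      have : t1 ∈ (⊥ : Subgroup (G ⧸ C)) := Subgroup.card_eq_one.mp h ▸ ht1
      rw [Subgroup.mem_bot.mp this]; group
    · exact h.trans (Subgroup.card_dvd_of_le (hSle.trans (Basics.pCore_le_fittingSubgroup s)))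
  have hℓs : ℓ ≠ s := fun e => Fpf.not_dvd_card_fitting V hne hi hmin hexp (e ▸ hsdF)
  have hℓd : ℓ ∣ Nat.card G := by
    obtain ⟨v, hv, hv1⟩ := V.bot_or_exists_ne_one.resolve_left hne
    exact orderOf_eq_prime (hexp v hv) hv1 ▸ orderOf_dvd_natCard v
  have hℓpq : ℓ ≠ p ∧ ℓ ≠ q :=
    ⟨fun e => hℓ.ne_one (Nat.eq_one_of_dvd_coprimes hcop hℓd (e ▸ dvd_mul_right p q)),
      fun e => hℓ.ne_one (Nat.eq_one_of_dvd_coprimes hcop hℓd (e ▸ dvd_mul_left q p))⟩
  let conjR : R →* MulAut (G ⧸ C) := MulAut.conj.comp R.subtype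
  have hSc : Inv conjR S := fun x t ht => hSR x x.2 t ht
  refine absurd_module hpq hℓpq.1 hℓpq.2 hℓs hrs (hnd hr hrd).1 (hnd hr hrd).2
    (hnd hs (hsdF.trans F.card_subgroup_dvd_card)).1 (hnd hs (hsdF.trans F.card_subgroup_dvd_card)).2
    hSp hRp (Fpf.restrict S hSi) (Fpf.restrict R hRi) (Fpf.restrict S hSc) ?_ ?_ ?_ ?_
    (hψf.restrict hSi) (hψf.restrict hRi) (W := Additive V)
    (fun x => Additive.toMul.injective (Subtype.ext (hexp _ (Additive.toMul x).2)))
    ((Fpf.quotRep V).comp S.subtype) ?_ ((Fpf.quotRep V).comp R.subtype) (Fpf.actRep φ V hi) ?_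
    (fun a y v => Fpf.compat_quotRep V hi a (y : G ⧸ C) v)
    (fun v hv => Fpf.actRep_free V hf hi v hv) ?_
  · intro a x t
    refine Subtype.ext ?_
    show ψ a ((x : G ⧸ C) * t * (x : G ⧸ C)⁻¹) = ψ a x * ψ a t * (ψ a x)⁻¹
    rw [map_mul, map_mul, map_inv]
  · exact ⟨⟨x1, hx1⟩, ⟨t1, ht1⟩, fun e => hx1t (congrArg Subtype.val e)⟩
  · intro M hMi hMc hMne x t ht
    by_contra hcon
    refine hSmin (M.map S.subtype) ⟨?_, (Subgroup.map_subtype_le M).trans hSle, ?_, ?_⟩
      (lt_of_le_of_ne (Subgroup.map_subtype_le M) fun e => hMne (by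
        apply Subgroup.map_injective S.subtype_injective
        rw [e, ← MonoidHom.range_eq_map, Subgroup.range_subtype]))
    · rintro a _ ⟨m, hm, rfl⟩
      exact ⟨_, hMi a m hm, rfl⟩
    · rintro y hy _ ⟨m, hm, rfl⟩
      exact ⟨_, hMc ⟨y, hy⟩ m hm, rfl⟩
    · exact ⟨x, x.2, t, ⟨t, ht, rfl⟩, fun e => hcon (Subtype.ext e)⟩
  · intro R' hR'i hR'ne x hx t
    by_contra hcon
    refine hRmin (R'.map R.subtype) ⟨?_, (Subgroup.map_subtype_le R').trans hRR0, ?_⟩
      (lt_of_le_of_ne (Subgroup.map_subtype_le R') fun e => hR'ne (by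
        apply Subgroup.map_injective R.subtype_injective
        rw [e, ← MonoidHom.range_eq_map, Subgroup.range_subtype]))
    · rintro a _ ⟨m, hm, rfl⟩
      exact ⟨_, hR'i a m hm, rfl⟩
    · exact ⟨x, ⟨x, hx, rfl⟩, t, hSle t.2, fun e => hcon (Subtype.ext e)⟩
  · intro x y e
    have e' : Fpf.quotRep V (x : G ⧸ C) = Fpf.quotRep V (y : G ⧸ C) := e
    refine Subtype.ext (inv_mul_eq_one.mp (Fpf.quotRep_eq_one V ?_))
    rw [map_mul, ← e', ← map_mul, inv_mul_cancel, map_one]
  · intro x t v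
    show Fpf.quotRep V (x : G ⧸ C) (Fpf.quotRep V (t : G ⧸ C) v) =
      Fpf.quotRep V ((x : G ⧸ C) * t * (x : G ⧸ C)⁻¹) (Fpf.quotRep V (x : G ⧸ C) v)
    rw [← Fpf.mul_apply', ← Fpf.mul_apply', inv_mul_cancel_right]
  · intro t ht v hv
    obtain ⟨g, hg⟩ := QuotientGroup.mk_surjective (t : G ⧸ C)
    have ht' : ψ π (t : G ⧸ C) = t := congrArg Subtype.val ht
    rw [← hg, hψ, Fpf.quot_mk] at ht'
    obtain ⟨z, hz, hzfix⟩ := fixed_rep hpq.hp φ hpq.pow_pi C (hi.centralizer π)
      (fun hd => hpq.hp.ne_one (Nat.eq_one_of_dvd_coprimes hcop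
        (hd.trans C.card_subgroup_dvd_card) (dvd_mul_right p q))) (QuotientGroup.eq.mp ht'.symm)
    have hzt : (z : G ⧸ C) = t := by rw [← hg]; exact (QuotientGroup.eq.mpr hz).symm
    obtain ⟨i, j, hj, hij⟩ := Nat.exists_eq_pow_mul_and_not_dvd
      (orderOf_pos z).ne' ℓ hℓ.ne_one
    set z' := z ^ (ℓ ^ i) with hz'
    have hz'fix : φ π z' = z' := by rw [hz', map_pow, hzfix]
    have hvfix : φ π ((Additive.toMul v : V) : G) = ((Additive.toMul v : V) : G) := by
      rw [← Fpf.actRep_apply φ V hi, hv]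
    have hord : (orderOf z').Coprime (orderOf ((Additive.toMul v : V) : G)) := by
      have h1 : orderOf z' = j := by
        rw [hz', orderOf_pow' z (pow_ne_zero _ hℓ.ne_zero), hij,
          Nat.gcd_eq_right (dvd_mul_right _ _), Nat.mul_div_cancel_left _ (pow_pos hℓ.pos i)]
      rw [h1]
      exact Nat.Coprime.coprime_dvd_right
        (orderOf_dvd_of_pow_eq_one (hexp _ (Additive.toMul v).2))
        (hℓ.coprime_iff_not_dvd.mpr hj).symm
    have hcomm := commute_of_fixed hpq φ hf hz'fix hvfix hord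
    have hfixv : Fpf.quotRep V ((t : G ⧸ C) ^ (ℓ ^ i)) v = v := by
      rw [← hzt, ← QuotientGroup.mk_pow]
      refine Additive.toMul.injective (Subtype.ext ?_)
      show ((Additive.toMul (Fpf.conjRep V z' v) : V) : G) = _
      rw [Fpf.conjRep_apply, hcomm.eq, mul_inv_cancel_right]
    obtain ⟨e, he⟩ := IsPGroup.iff_orderOf.mp hSp t
    obtain ⟨m, hm⟩ := exists_pow_eq_self_of_coprime (x := (t : G ⧸ C)) (n := ℓ ^ i) (by
      rw [Subgroup.orderOf_coe, he]
      exact ((Nat.coprime_primes hℓ hs).mpr hℓs).pow i e)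
    show Fpf.quotRep V (t : G ⧸ C) v = v
    rw [← hm]
    clear hm
    induction m with
    | zero => rw [pow_zero, map_one]; rfl
    | succ m ihm => rw [pow_succ, Fpf.mul_apply', hfixv, ihm]

theorem exists_fitting {A : Type u} [Group A] [Finite A] {p q : ℕ} (hp : p.Prime) (hq : q.Prime)
    (hne : p ≠ q) (hA : Nat.card A = p * q) (hna : ¬ IsMulCommutative A) {G : Type v} [Group G]
    [Finite G] [Group.IsSolvable G] (hcop : (Nat.card G).Coprime (p * q)) (φ : A →* MulAut G)
    (hf : Free φ) : Group.IsNilpotent (G ⧸ fittingSubgroup G) := by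
  wlog hlt : q < p generalizing p q with h
  · exact h hq hp hne.symm (by rw [hA, mul_comm]) (by rwa [mul_comm]) (by omega)
  obtain ⟨π, hpq⟩ := pq_data hp hq hlt hA hna
  obtain ⟨k, hk⟩ := quotient_fitting_nilpotent hpq hcop φ hf
  refine nilpotent_iff_lowerCentralSeries.mpr ⟨k, eq_bot_iff.mpr ?_⟩
  rw [← Subgroup.map_top_of_surjective _ (QuotientGroup.mk'_surjective (fittingSubgroup G)),
    ← Subgroup.map_lowerCentralSeries, Subgroup.map_le_iff_le_comap, MonoidHom.comap_bot,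
    QuotientGroup.ker_mk']
  exact hk

end Cfsg.Agent.PQHeight
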