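import Cfsg.Agent.Lib.ShultGross.Core

/-!
An automorphism of prime order without fixed vectors on a representation of a group with central
commutators: it centralises the nondegenerate section, apart from the exceptional case.
-/

set_option autoImplicit false
set_option linter.unusedSectionVars false
set_option linter.style.haveILetI false

namespace Cfsg.Agent.PQHeight

open Module Finset
open scoped commutatorElement

variable {K : Type*} [Field K] [IsAlgClosed K] {S : Type*} [Group S] [Finite S]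
  {A : Type*} [Group A] {V : Type*} [AddCommGroup V] [Module K V] [FiniteDimensional K V]

/-- The dichotomy. -/
theorem section_dichotomy {s l : ℕ} [hs : Fact s.Prime] (hS : IsPGroup s S) (hl : l.Prime)
    (hls : l ≠ s) (α : A →* MulAut S) (a : A) (ha : a ^ l = 1) (ρ : S →* Module.End K V)
    (SA : A →* Module.End K V) (hc : ∀ c y, SA c * ρ y = ρ (α c y) * SA c)
    (Z Z1 : Subgroup S) (hcen : Z ≤ Subgroup.center S) (hcom : ∀ x w : S, ⁅x, w⁆ ∈ Z)
    (ζ : S → K) (hmul : ∀ x ∈ Z, ∀ y ∈ Z, ζ (x * y) = ζ x * ζ y) (h1 : ζ 1 = 1)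
    (hZ1 : ∀ x, x ∈ Z1 ↔ ∀ w, ζ ⁅x, w⁆ = 1) (haZ : ∀ z ∈ Z, α a z ∈ Z ∧ ζ (α a z) = ζ z)
    (hne : ∃ v : V, v ≠ 0 ∧ ∀ z ∈ Z, ρ z v = ζ z • v)
    (hsum : ∀ v : V, (∀ z ∈ Z, ρ z v = ζ z • v) → ∑ j ∈ range l, SA (a ^ j) v = 0)
    (hKs : (s : K) ≠ 0) (hKl : (l : K) ≠ 0) :
    (∀ u, u⁻¹ * α a u ∈ Z1) ∨ (s = 2 ∧ ∃ b, 1 ≤ b ∧ 2 ^ b + 1 = l ∧ ∃ D : Subgroup S,
      (∀ u, u ∈ D ↔ ∃ w, (w⁻¹ * α a w)⁻¹ * u ∈ Z1) ∧ Z1.relIndex D = 2 ^ b * 2 ^ b) := by
  classical
  haveI := Fintype.ofFinite S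
  haveI := Fact.mk hl
  have hcz : ∀ z ∈ Z, ∀ g : S, g * z = z * g := fun z hz g =>
    Subgroup.mem_center_iff.mp (hcen hz) g
  have hcom_l : ∀ x y w : S, ⁅x * y, w⁆ = ⁅y, w⁆ * ⁅x, w⁆ := fun x y w => by
    rw [show ⁅x * y, w⁆ = x * ⁅y, w⁆ * x⁻¹ * ⁅x, w⁆ by simp only [commutatorElement_def]; group,
      hcz _ (hcom y w) x, mul_inv_cancel_right]
  have hcom_r : ∀ x y w : S, ⁅x, y * w⁆ = ⁅x, y⁆ * ⁅x, w⁆ := fun x y w => by
    rw [show ⁅x, y * w⁆ = ⁅x, y⁆ * (y * ⁅x, w⁆ * y⁻¹) by simp only [commutatorElement_def]; group,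
      hcz _ (hcom x w) y, mul_inv_cancel_right]
  have hswap : ∀ u w : S, ζ ⁅u, w⁆ * ζ ⁅w, u⁆ = 1 := fun u w => by
    rw [← hmul _ (hcom _ _) _ (hcom _ _), ← commutatorElement_inv w u, inv_mul_cancel, h1]
  have hZ1r : ∀ x ∈ Z1, ∀ w, ζ ⁅w, x⁆ = 1 := fun x hx w => by
    have h := hswap w x
    rwa [(hZ1 x).mp hx w, mul_one] at h
  have hZle : Z ≤ Z1 := fun z hz => (hZ1 z).mpr fun w => by
    rw [commutatorElement_eq_one_iff_mul_comm.mpr (hcz z hz w).symm, h1]
  haveI hZ1n : Z1.Normal := ⟨fun x hx g => by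
    rw [show g * x * g⁻¹ = ⁅g, x⁆ * x by simp only [commutatorElement_def]; group]
    exact Z1.mul_mem (hZle (hcom _ _)) hx⟩
  have hapow : ∀ j : ℕ, ∀ z ∈ Z, α (a ^ j) z ∈ Z ∧ ζ (α (a ^ j) z) = ζ z := by
    intro j
    induction j with
    | zero => intro z hz; rw [pow_zero, map_one, MulAut.one_apply]; exact ⟨hz, rfl⟩
    | succ j ih =>
      intro z hz
      rw [pow_succ, map_mul, MulAut.mul_apply]
      obtain ⟨h2, h3⟩ := ih _ (haZ z hz).1
      exact ⟨h2, h3.trans (haZ z hz).2⟩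
  have hinvZ1 : ∀ j : ℕ, ∀ x ∈ Z1, α (a ^ j) x ∈ Z1 := by
    intro j x hx
    refine (hZ1 _).mpr fun w => ?_
    obtain ⟨w, rfl⟩ := (α (a ^ j)).surjective w
    rw [← map_commutatorElement, (hapow j _ (hcom x w)).2]
    exact (hZ1 x).mp hx w
  have hzmem : ∀ b ∈ Subgroup.zpowers a, ∀ x ∈ Z1, α b x ∈ Z1 := fun b hb x hx => by
    obtain ⟨j, rfl⟩ := ((isOfFinOrder_iff_pow_eq_one.mpr ⟨l, hl.pos, ha⟩).mem_powers_iff_mem_zpowers.mpr hb)
    exact hinvZ1 j x hx
  have hw1 : Z1.map (α a).toMonoidHom = Z1 := by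
    refine le_antisymm ?_ fun x hx => ⟨α a⁻¹ x, hzmem _ (Subgroup.inv_mem _ (Subgroup.mem_zpowers a)) x hx, ?_⟩
    · rintro _ ⟨x, hx, rfl⟩
      exact hzmem a (Subgroup.mem_zpowers a) x hx
    · show α a (α a⁻¹ x) = x
      rw [← MulAut.mul_apply, ← map_mul, mul_inv_cancel, map_one, MulAut.one_apply]
  set ab : MulAut (S ⧸ Z1) := QuotientGroup.congr Z1 Z1 (α a) hw1 with hab
  have habmk : ∀ u : S, ab (u : S ⧸ Z1) = ((α a u : S) : S ⧸ Z1) := fun u => rfl
  have habpow : ∀ (j : ℕ) (u : S), (ab ^ j) (u : S ⧸ Z1) = ((α (a ^ j) u : S) : S ⧸ Z1) := by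
    intro j
    induction j with
    | zero => intro u; simp
    | succ j ih =>
      intro u
      rw [pow_succ, pow_succ, MulAut.mul_apply, habmk, ih, map_mul, MulAut.mul_apply]
  have hcommU : ∀ x y : S ⧸ Z1, x * y = y * x := fun x y => by
    obtain ⟨x, rfl⟩ := QuotientGroup.mk_surjective x
    obtain ⟨y, rfl⟩ := QuotientGroup.mk_surjective y
    rw [← commutatorElement_eq_one_iff_mul_comm, ← QuotientGroup.mk'_apply,
      ← QuotientGroup.mk'_apply, ← map_commutatorElement, QuotientGroup.mk'_apply,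
      QuotientGroup.eq_one_iff]
    exact hZle (hcom x y)
  let ψ : S ⧸ Z1 →* S ⧸ Z1 :=
    { toFun := fun u => u⁻¹ * ab u
      map_one' := by simp
      map_mul' := fun x y => by
        rw [map_mul, mul_inv_rev, hcommU y⁻¹ x⁻¹, mul_assoc x⁻¹, ← mul_assoc y⁻¹, hcommU y⁻¹ (ab x)]
        simp only [mul_assoc] }
  -- moved into a fixed class means fixed
  have hmove : ∀ x, ab (ψ x) = ψ x → ψ x = 1 := by
    intro x hx
    set c := ψ x with hcdef
    have hax : ab x = x * c := by rw [hcdef]; exact (mul_inv_cancel_left x (ab x)).symm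
    have hpow : ∀ j : ℕ, (ab ^ j) x = x * c ^ j := by
      intro j
      induction j with
      | zero => simp
      | succ j ih => rw [pow_succ', MulAut.mul_apply, ih, map_mul, map_pow, hx, hax, mul_assoc, ← pow_succ']
    have h2 := hpow l
    obtain ⟨u, rfl⟩ := QuotientGroup.mk_surjective x
    rw [habpow, ha, map_one, MulAut.one_apply, left_eq_mul] at h2
    obtain ⟨e, he⟩ := IsPGroup.iff_card.mp (hS.to_quotient Z1)
    rw [← orderOf_eq_one_iff]
    refine Nat.eq_one_of_dvd_coprimes ?_ (orderOf_dvd_of_pow_eq_one h2) (_root_.orderOf_dvd_natCard c)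
    rw [he]
    exact ((Nat.coprime_primes hl hs.out).mpr hls).pow_right e
  by_cases htriv : ∀ u : S, u⁻¹ * α a u ∈ Z1
  · exact Or.inl htriv
  refine Or.inr ?_
  let D : Subgroup S := ψ.range.comap (QuotientGroup.mk' Z1)
  have hDmem : ∀ u, u ∈ D ↔ ∃ w, (w⁻¹ * α a w)⁻¹ * u ∈ Z1 := by
    intro u
    constructor
    · rintro ⟨x, hx⟩
      obtain ⟨w, rfl⟩ := QuotientGroup.mk_surjective x
      exact ⟨w, QuotientGroup.eq.mp hx⟩
    · rintro ⟨w, hw⟩
      exact ⟨(w : S ⧸ Z1), QuotientGroup.eq.mpr hw⟩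
  have hZ1D : Z1 ≤ D := fun z hz => (hDmem z).mpr ⟨1, by simpa using hz⟩
  have hDa : ∀ u ∈ D, α a u ∈ D := by
    intro u hu
    obtain ⟨x, hx⟩ := hu
    refine ⟨ab x, ?_⟩
    show (ab x)⁻¹ * ab (ab x) = ((α a u : S) : S ⧸ Z1)
    rw [← map_inv, ← map_mul, show x⁻¹ * ab x = (u : S ⧸ Z1) from hx, habmk]
  have hDpow : ∀ (j : ℕ), ∀ u ∈ D, α (a ^ j) u ∈ D := by
    intro j
    induction j with
    | zero => intro u hu; simpa using hu
    | succ j ih => intro u hu; rw [pow_succ', map_mul, MulAut.mul_apply]; exact hDa _ (ih u hu)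
  have hDinv : ∀ u, α a u ∈ D ↔ u ∈ D := fun u => by
    refine ⟨fun h => ?_, hDa u⟩
    have h2 := hDpow (l - 1) _ h
    rwa [← MulAut.mul_apply, ← map_mul, ← pow_succ, Nat.sub_add_cancel hl.one_lt.le, ha, map_one,
      MulAut.one_apply] at h2
  let aD : MulAut D :=
    { toFun := fun u => ⟨α a u, hDa u u.2⟩
      invFun := fun u => ⟨(α a).symm u, (hDinv _).mp (by rw [MulEquiv.apply_symm_apply]; exact u.2)⟩
      left_inv := fun u => Subtype.ext ((α a).symm_apply_apply u)
      right_inv := fun u => Subtype.ext ((α a).apply_symm_apply u)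
      map_mul' := fun u w => Subtype.ext (map_mul (α a) (u : S) w) }
  have haD : ∀ (j : ℕ) (u : D), (((aD ^ j) u : D) : S) = α (a ^ j) u := by
    intro j
    induction j with
    | zero => intro u; simp
    | succ j ih =>
      intro u
      rw [pow_succ, pow_succ, MulAut.mul_apply, ih, map_mul, MulAut.mul_apply]
      rfl
  -- the eigenspace of the radical
  let E : Submodule K V :=
    { carrier := {v | ∀ z ∈ Z, ρ z v = ζ z • v}
      add_mem' := fun {x y} hx hy z hz => by rw [map_add, hx z hz, hy z hz, smul_add]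
      zero_mem' := fun z _ => by rw [map_zero, smul_zero]
      smul_mem' := fun c v hv z hz => by rw [map_smul, hv z hz, smul_comm] }
  have hEne : E ≠ ⊥ := by
    obtain ⟨v, hv0, hv⟩ := hne
    exact fun e => hv0 ((Submodule.eq_bot_iff _).mp e v hv)
  have hEinv : ∀ u, ∀ v ∈ E, ρ u v ∈ E := fun u v hv z hz => by
    rw [← Module.End.mul_apply, ← map_mul, ← hcz z hz u, map_mul, Module.End.mul_apply, hv z hz,
      map_smul]
  obtain ⟨W1, ⟨hW1E, hW10, hW1inv⟩, hW1min'⟩ := WellFounded.has_min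
    (wellFounded_lt (α := Submodule K V))
    {W | W ≤ E ∧ W ≠ ⊥ ∧ ∀ u, ∀ v ∈ W, ρ u v ∈ W} ⟨E, le_rfl, hEne, hEinv⟩
  have hW1min : ∀ W' : Submodule K V, W' ≤ W1 → W' ≠ ⊥ → (∀ u, ∀ v ∈ W', ρ u v ∈ W') → W' = W1 := by
    intro W' h2 h3 h4
    by_contra hne
    exact hW1min' W' ⟨h2.trans hW1E, h3, h4⟩ (lt_of_le_of_ne h2 hne)
  obtain ⟨w1, hw1', hw10⟩ := Submodule.exists_mem_ne_zero_of_ne_bot hW10
  have hcommE : ∀ x ∈ Z1, ∀ u, ∀ v : V, (∀ z ∈ Z, ρ z v = ζ z • v) →
      ρ x (ρ u v) = ρ u (ρ x v) := by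
    intro x hx u v hv
    rw [← Module.End.mul_apply, ← Module.End.mul_apply, ← map_mul, ← map_mul,
      show x * u = u * x * ⁅x⁻¹, u⁻¹⁆ by simp only [commutatorElement_def]; group, map_mul,
      Module.End.mul_apply, hv _ (hcom _ _), (hZ1 _).mp (Z1.inv_mem hx), one_smul]
  have hexχ : ∀ x : S, ∃ c : K, x ∈ Z1 → ∀ v ∈ W1, ρ x v = c • v := by
    intro x
    by_cases hx : x ∈ Z1
    · obtain ⟨c, hc'⟩ := ShultGross.scalar_on_minimal ρ W1 hW10 hW1min hW1inv (ρ x) (hW1inv x)
        fun u v hv => hcommE x hx u v (hW1E hv)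
      exact ⟨c, fun _ => hc'⟩
    · exact ⟨0, fun h => absurd h hx⟩
  choose χ hχ using hexχ
  have hcancel : ∀ {c d : K}, c • w1 = d • w1 → c = d := fun h => smul_left_injective K hw10 h
  have hχZ : ∀ z ∈ Z, χ z = ζ z := fun z hz => hcancel (by
    rw [← hχ z (hZle hz) w1 hw1', hW1E hw1' z hz])
  have hχmul : ∀ x ∈ Z1, ∀ y ∈ Z1, χ (x * y) = χ x * χ y := fun x hx y hy => hcancel (by
    rw [← hχ _ (mul_mem hx hy) w1 hw1', map_mul, Module.End.mul_apply, hχ y hy w1 hw1', map_smul,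
      hχ x hx w1 hw1', smul_smul, mul_comm])
  have hχ1 : χ 1 = 1 := by rw [hχZ 1 (one_mem _), h1]
  have hsubK : ∀ R : Subgroup S, (Nat.card R : K) ≠ 0 := fun R => by
    obtain ⟨e, he⟩ := IsPGroup.iff_card.mp (hS.to_subgroup R)
    rw [he, Nat.cast_pow]
    exact pow_ne_zero _ hKs
  -- the character is invariant
  have hχa : ∀ x ∈ Z1, χ (α a x) = χ x := by
    by_contra hnot
    push Not at hnot
    obtain ⟨x0, hx0, hne0⟩ := hnot
    have h2 := ShultGross.select α ρ SA hc Z1 χ hχmul hχ1 (hsubK Z1) (range l) (fun j => a ^ j)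
      (fun j _ x hx => hzmem _ (Subgroup.inv_mem _ (Subgroup.npow_mem_zpowers a j)) x hx)
      (fun x hx => hχ x hx w1 hw1') (hsum w1 (hW1E hw1')) (fun j => j = 0) (fun j hj => by
        constructor
        · rintro rfl x _
          rw [pow_zero, inv_one, map_one, MulAut.one_apply]
        · intro h
          by_contra hj0
          refine hne0 ?_
          have hcop : j.Coprime (orderOf a) :=
            ((hl.coprime_iff_not_dvd.mpr fun hd => hj0
              (Nat.eq_zero_of_dvd_of_lt hd (Finset.mem_range.mp hj))).symm).coprime_dvd_right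
                (orderOf_dvd_of_pow_eq_one ha)
          obtain ⟨m, hm⟩ := exists_pow_eq_self_of_coprime hcop
          have hiter : ∀ i : ℕ, ∀ x ∈ Z1, χ (α ((a ^ j) ^ i) x) = χ x := by
            intro i
            induction i with
            | zero => intro x _; simp
            | succ i ih =>
              intro x hx
              rw [pow_succ, map_mul, MulAut.mul_apply, ih _ (hinvZ1 j x hx)]
              have h3 := h _ (hinvZ1 j x hx)
              rw [← MulAut.mul_apply, ← map_mul, inv_mul_cancel, map_one, MulAut.one_apply] at h3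
              exact h3.symm
          rw [← hm]
          exact hiter m x0 hx0)
    rw [Finset.filter_eq', if_pos (Finset.mem_range.mpr hl.pos), Finset.sum_singleton, pow_zero,
      map_one, Module.End.one_apply] at h2
    exact hw10 h2
  let V1 : Submodule K V :=
    { carrier := {v | ∀ x ∈ Z1, ρ x v = χ x • v}
      add_mem' := fun {x y} hx hy z hz => by rw [map_add, hx z hz, hy z hz, smul_add]
      zero_mem' := fun z _ => by rw [map_zero, smul_zero]
      smul_mem' := fun c v hv z hz => by rw [map_smul, hv z hz, smul_comm] }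
  have hV1Z : ∀ v ∈ V1, ∀ z ∈ Z, ρ z v = ζ z • v := fun v hv z hz => by
    rw [hv z (hZle hz), hχZ z hz]
  have hV1Q : ∀ u, ∀ v ∈ V1, ρ u v ∈ V1 := fun u v hv x hx => by
    rw [hcommE x hx u v (hV1Z v hv), hv x hx, map_smul]
  have hV1S : ∀ v ∈ V1, SA a v ∈ V1 := by
    intro v hv x hx
    obtain ⟨y, hy, rfl⟩ := hw1.symm.le hx
    show ρ (α a y) (SA a v) = χ (α a y) • SA a v
    have h2 := LinearMap.congr_fun (hc a y) v
    rw [Module.End.mul_apply, Module.End.mul_apply, hv y hy, map_smul] at h2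
    rw [hχa y hy, h2]
  haveI : Nontrivial V1 := Submodule.nontrivial_iff_ne_bot.mpr fun e => hw10 <|
    (Submodule.eq_bot_iff _).mp e w1 fun x hx => hχ x hx w1 hw1'
  let ρ1 : D →* Module.End K V1 :=
    { toFun := fun u => (ρ u).restrict (hV1Q u)
      map_one' := LinearMap.ext fun v => Subtype.ext (by
        show ρ 1 v.1 = v.1
        rw [map_one, Module.End.one_apply])
      map_mul' := fun u w => LinearMap.ext fun v => Subtype.ext (by
        show ρ (u * w : S) v.1 = ρ u (ρ w v.1)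
        rw [map_mul, Module.End.mul_apply]) }
  let S1 : Module.End K V1 := (SA a).restrict hV1S
  have hS1 : ∀ (j : ℕ) (v : V1), ((S1 ^ j) v : V) = SA (a ^ j) (v : V) := by
    intro j
    induction j with
    | zero =>
      intro v
      rw [pow_zero, pow_zero, map_one]
      rfl
    | succ j ih =>
      intro v
      rw [pow_succ', pow_succ', Module.End.mul_apply, map_mul, Module.End.mul_apply, ← ih]
      rfl
  have hKS : (Nat.card D : K) ≠ 0 := hsubK D
  have hset : ShultGross.Setup ρ1 (Z1.subgroupOf D) (fun u : D => χ u) aD S1 l :=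
    { comm_mem := fun w u => Subgroup.mem_subgroupOf.mpr (hZle (hcom w u))
      scalar := fun z hz => LinearMap.ext fun v =>
        Subtype.ext (v.2 z (Subgroup.mem_subgroupOf.mp hz))
      chi_inv := fun z hz => hχa z (Subgroup.mem_subgroupOf.mp hz)
      inv := fun z => by
        show α a (z : S) ∈ Z1 ↔ (z : S) ∈ Z1
        exact ⟨fun h => by
          obtain ⟨y, hy, hyz⟩ := hw1.symm.le h
          exact (α a).injective hyz ▸ hy, hzmem a (Subgroup.mem_zpowers a) _⟩
      nondeg := fun u hu => by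
        by_contra hcon
        push Not at hcon
        refine hu (Subgroup.mem_subgroupOf.mpr ((hZ1 _).mpr fun w => ?_))
        -- split `w` along the fixed and the moved part
        have hψinj : Function.Injective fun x : ψ.range => (⟨ψ x, ⟨x, rfl⟩⟩ : ψ.range) := by
          rintro ⟨x, hx⟩ ⟨y, hy⟩ he
          have he' : ψ x = ψ y := congrArg Subtype.val he
          refine Subtype.ext ?_
          obtain ⟨z, hz⟩ := ψ.range.mul_mem hx (ψ.range.inv_mem hy)
          have h3 : ψ (x * y⁻¹) = 1 := by rw [map_mul, map_inv, he', mul_inv_cancel]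
          have h4 : ab (x * y⁻¹) = x * y⁻¹ := (inv_mul_eq_one.mp h3).symm
          rw [← hz] at h4
          have h5 := hmove z h4
          rw [hz, mul_inv_eq_one] at h5
          exact h5
        obtain ⟨⟨y, hy⟩, hyw⟩ := Finite.injective_iff_surjective.mp hψinj
          ⟨ψ (w : S ⧸ Z1), ⟨_, rfl⟩⟩
        have hyw' : ψ y = ψ (w : S ⧸ Z1) := congrArg Subtype.val hyw
        obtain ⟨d, rfl⟩ := QuotientGroup.mk_surjective y
        have hfix : ((d⁻¹ * w : S) : S ⧸ Z1) = ((α a (d⁻¹ * w) : S) : S ⧸ Z1) := by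
          have h3 : ψ ((d⁻¹ * w : S) : S ⧸ Z1) = 1 := by
            rw [QuotientGroup.mk_mul, QuotientGroup.mk_inv, map_mul, map_inv, hyw', inv_mul_cancel]
          exact inv_mul_eq_one.mp h3
        set k := d⁻¹ * w with hk
        have hdk : ζ ⁅(u : S), w⁆ = ζ ⁅(u : S), d⁆ * ζ ⁅(u : S), k⁆ := by
          rw [show w = d * k by rw [hk, mul_inv_cancel_left], hcom_r, hmul _ (hcom _ _) _ (hcom _ _)]
        have hd : ζ ⁅(u : S), d⁆ = 1 := by
          have h3 := hcon ⟨d, hy⟩
          have h4 := hswap (u : S) d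
          rwa [show ζ ⁅d, (u : S)⁆ = 1 by rw [← hχZ _ (hcom _ _)]; exact h3, mul_one] at h4
        obtain ⟨x, hx⟩ := u.2
        obtain ⟨g, rfl⟩ := QuotientGroup.mk_surjective x
        have hu' : (g⁻¹ * α a g)⁻¹ * (u : S) ∈ Z1 := QuotientGroup.eq.mp hx
        have hk2 : ∀ y : S, ζ ⁅α a y, α a k⁆ = ζ ⁅α a y, k⁆ := fun y => by
          have h6 : k⁻¹ * α a k ∈ Z1 := QuotientGroup.eq.mp hfix
          conv_lhs => rw [show α a k = k * (k⁻¹ * α a k) by rw [mul_inv_cancel_left]]
          rw [hcom_r, hmul _ (hcom _ _) _ (hcom _ _), hZ1r _ h6, mul_one]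
        rw [hdk, hd, one_mul, show (u : S) = g⁻¹ * α a g * ((g⁻¹ * α a g)⁻¹ * u) by
          rw [mul_inv_cancel_left], hcom_l, hmul _ (hcom _ _) _ (hcom _ _), (hZ1 _).mp hu' k, one_mul,
          hcom_l, hmul _ (hcom _ _) _ (hcom _ _), ← hk2 g, ← map_commutatorElement,
          (haZ _ (hcom g k)).2]
        have h7 := hcom_l g⁻¹ g k
        rw [inv_mul_cancel, commutatorElement_one_left] at h7
        rw [← hmul _ (hcom _ _) _ (hcom _ _), ← h7, h1]
      fpf := fun j hj0 hj u hu => by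
        rw [Subgroup.mem_subgroupOf] at hu ⊢
        have hu' : (u : S)⁻¹ * α (a ^ j) (u : S) ∈ Z1 := by rw [← haD]; exact hu
        have h2 : (ab ^ j) ((u : S) : S ⧸ Z1) = (u : S) := by
          rw [habpow]; exact (QuotientGroup.eq.mpr hu').symm
        have h4 : ab ^ l = 1 := MulEquiv.ext fun x => by
          obtain ⟨x, rfl⟩ := QuotientGroup.mk_surjective x
          rw [habpow, ha, map_one, MulAut.one_apply, MulAut.one_apply]
        obtain ⟨m, hm⟩ := exists_pow_eq_self_of_coprime (x := ab) (n := j)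
          (((hl.coprime_iff_not_dvd.mpr fun hd => hj0.ne'
            (Nat.eq_zero_of_dvd_of_lt hd hj)).symm).coprime_dvd_right (orderOf_dvd_of_pow_eq_one h4))
        have h5 : ∀ i : ℕ, ((ab ^ j) ^ i) ((u : S) : S ⧸ Z1) = (u : S) := by
          intro i
          induction i with
          | zero => simp
          | succ i ih => rw [pow_succ, MulAut.mul_apply, h2, ih]
        have h6 := h5 m
        rw [hm] at h6
        obtain ⟨x, hx⟩ := u.2
        have hx' : ψ x = ((u : S) : S ⧸ Z1) := hx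
        rw [← hx'] at h6
        have h7 := hmove x h6
        rw [hx', QuotientGroup.eq_one_iff] at h7
        exact h7
      apow := MulEquiv.ext fun u => Subtype.ext (by
        rw [haD, ha, map_one]; rfl)
      compat := fun u => LinearMap.ext fun v => Subtype.ext (LinearMap.congr_fun (hc a u) v.1)
      spow := LinearMap.ext fun v => Subtype.ext (by rw [hS1, ha, map_one]; rfl)
      ssum := LinearMap.ext fun v => Subtype.ext (by
        rw [LinearMap.sum_apply, AddSubmonoidClass.coe_finsetSum]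
        simp only [hS1]
        rw [hsum _ (hV1Z v.1 v.2)]
        rfl)
      cardQ := hKS
      cardN := hKl
      one_lt := hl.one_lt }
  have htop : Z1.subgroupOf D ≠ ⊤ := fun h => htriv fun u => by
    have hle := Subgroup.subgroupOf_eq_top.mp h
    exact hle ((hDmem _).mpr ⟨u, by rw [inv_mul_cancel]; exact one_mem _⟩)
  obtain ⟨d, t, hd2, hdN, hdt, hidx⟩ := hset.degree htop
  have hl2 : l ≠ 2 := by omega
  obtain ⟨e, he⟩ := (hS.to_subgroup D).index (Z1.subgroupOf D)
  obtain ⟨rfl, b, hb1, hdb, hbl⟩ := ShultGross.degree_eq (m := 1) hl hl2 hs.out hd2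
    (by rwa [pow_one]) (by rwa [pow_one]) (hidx.symm.trans he)
  rw [pow_one] at hbl
  exact ⟨rfl, b, hb1, hbl, D, hDmem, by rw [← hdb]; exact hidx⟩

end Cfsg.Agent.PQHeight
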